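import Mathlib

/-!
Sylvester's theorem for binomial coefficients: for `1 ≤ k` and `2 * k ≤ n`, some prime greater than
`k` divides `n.choose k`. Erdős' argument for `4096 ≤ k`, prime chains below that.
-/

set_option autoImplicit false
set_option maxRecDepth 100000

namespace CfsgLib.Derangement.Sylv

open Finset

/-- The primes up to `k`. -/
def T (k : ℕ) : Finset ℕ := (range (k + 1)).filter Nat.Prime

variable {n k : ℕ}

/-- All prime divisors of `n.choose k` are at most `k`. -/
def Small (n k : ℕ) : Prop := ∀ p : ℕ, p.Prime → p ∣ n.choose k → p ≤ k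

theorem choose_eq_prod (hkn : k ≤ n) (hS : Small n k) :
    n.choose k = ∏ p ∈ T k, p ^ (n.choose k).factorization p := by
  conv_lhs => rw [← Nat.prod_pow_factorization_choose n k hkn]
  symm
  refine prod_subset ?_ ?_
  · intro p hp
    simp only [T, mem_filter, mem_range] at hp ⊢
    omega
  · intro p hp hpT
    by_cases hP : p.Prime
    · rw [Nat.factorization_eq_zero_of_not_dvd fun hd => hpT ?_, pow_zero]
      simp only [T, mem_filter, mem_range]
      exact ⟨by have := hS p hP hd; omega, hP⟩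
    · rw [Nat.factorization_eq_zero_of_not_prime _ hP, pow_zero]

theorem choose_le_pow_card (hn : 0 < n) (hkn : k ≤ n) (hS : Small n k) :
    n.choose k ≤ n ^ (T k).card := by
  rw [choose_eq_prod hkn hS]
  exact prod_le_pow_card _ _ _ fun p _ => Nat.pow_factorization_choose_le hn

theorem desc_ineq (m : ℕ) (hmn : m ≤ n) : ∀ j : ℕ, j ≤ m →
    m.descFactorial j * n ^ j ≤ n.descFactorial j * m ^ j
  | 0, _ => by simp
  | j + 1, hj => by
    have ih := desc_ineq m hmn j (Nat.le_of_succ_le hj)
    rw [Nat.descFactorial_succ, Nat.descFactorial_succ, pow_succ, pow_succ]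
    have h : (m - j) * n ≤ (n - j) * m := by
      rw [Nat.sub_mul, Nat.sub_mul, mul_comm n m]
      exact Nat.sub_le_sub_left (Nat.mul_le_mul_left j hmn) _
    calc (m - j) * m.descFactorial j * (n ^ j * n)
        = ((m - j) * n) * (m.descFactorial j * n ^ j) := by ring
      _ ≤ ((n - j) * m) * (n.descFactorial j * m ^ j) := Nat.mul_le_mul h ih
      _ = (n - j) * n.descFactorial j * (m ^ j * m) := by ring

theorem choose_ineq (m : ℕ) (hkm : k ≤ m) (hmn : m ≤ n) : m.choose k * n ^ k ≤ n.choose k * m ^ k := by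
  have h := desc_ineq m hmn k hkm
  rw [Nat.descFactorial_eq_factorial_mul_choose, Nat.descFactorial_eq_factorial_mul_choose,
    mul_assoc, mul_assoc] at h
  exact Nat.le_of_mul_le_mul_left h k.factorial_pos

theorem pow_ineq (hk : 0 < k) (hkn : k ≤ n) (hS : Small n k) : n ^ (k - (T k).card) ≤ k ^ k := by
  have hn : 0 < n := by omega
  have h1 := choose_ineq k le_rfl hkn
  rw [Nat.choose_self, one_mul] at h1
  rcases Nat.lt_or_ge (T k).card k with hc | hc
  · have h2 : n ^ (k - (T k).card) * n ^ (T k).card ≤ k ^ k * n ^ (T k).card := by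
      rw [← pow_add, Nat.sub_add_cancel hc.le, mul_comm (k ^ k)]
      exact h1.trans (Nat.mul_le_mul_right _ (choose_le_pow_card hn hkn hS))
    exact Nat.le_of_mul_le_mul_right h2 (pow_pos hn _)
  · rw [Nat.sub_eq_zero_of_le hc, pow_zero]
    exact Nat.one_le_pow _ _ hk

theorem card_T_lt (hk : 10 ≤ k) : 2 * (T k).card < k := by
  have hsub : T k ⊆ insert 2 ((((range ((k + 1) / 2)).erase 0).erase 4).image fun i => 2 * i + 1) := by
    intro p hp
    simp only [T, mem_filter, mem_range] at hp
    obtain ⟨hpk, hp⟩ := hp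
    rcases hp.eq_two_or_odd with h | h
    · exact mem_insert.mpr (Or.inl h)
    · refine mem_insert_of_mem (mem_image.mpr ⟨p / 2, ?_, by omega⟩)
      have h1 := hp.two_le
      have h9 : p ≠ 9 := by
        rintro rfl
        norm_num at hp
      simp only [mem_erase, mem_range]
      omega
  have h := (card_le_card hsub).trans ((card_insert_le _ _).trans (Nat.add_le_add_right card_image_le 1))
  rw [card_erase_of_mem (by simp only [mem_erase, mem_range]; omega),
    card_erase_of_mem (by simp only [mem_range]; omega), card_range] at h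
  omega

theorem le_sq (hk : 10 ≤ k) (hkn : k ≤ n) (hS : Small n k) : n ≤ k * k := by
  by_contra h
  have hc := card_T_lt hk
  have h1 := pow_ineq (by omega) hkn hS
  have h3 : k ^ k * k ^ k < n ^ k := by
    rw [← mul_pow]
    exact Nat.pow_lt_pow_left (by omega) (by omega)
  have h4 : n ^ k ≤ n ^ (k - (T k).card) * n ^ (k - (T k).card) := by
    rw [← pow_add]
    exact Nat.pow_le_pow_right (by omega) (by omega)
  exact absurd (h3.trans_le (h4.trans (Nat.mul_le_mul h1 h1))) (lt_irrefl _)

theorem log_aux : ∀ L, 14 ≤ L → (L * L + 16) ^ 3 < 4096 * 2 ^ (L - 1) := by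
  intro L hL
  induction L, hL using Nat.le_induction with
  | base => norm_num
  | succ L hL ih =>
    have h1 : 4 * ((L + 1) * (L + 1) + 16) ≤ 5 * (L * L + 16) := by nlinarith
    have h2 := Nat.pow_le_pow_left h1 3
    rw [mul_pow, mul_pow] at h2
    have h3 : 2 ^ (L + 1 - 1) = 2 * 2 ^ (L - 1) := by
      rw [← pow_succ']; congr 1; omega
    rw [h3]
    omega

theorem succ_sq_le : ∀ s, 10 ≤ s → 2 * ((s + 1) * (s + 1)) + 1 ≤ 2 ^ s := by
  intro s hs
  induction s, hs using Nat.le_induction with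
  | base => norm_num
  | succ s hs ih => rw [pow_succ]; nlinarith

theorem root_bound (hn : 8192 ≤ n) : ∃ c, n < (c + 1) ^ 3 ∧ c ≤ Nat.sqrt n ∧
    n ^ c ≤ 2 ^ (4 * (Nat.sqrt n + 1)) := by
  classical
  refine ⟨Nat.findGreatest (fun c => c ^ 3 ≤ n) n, ?_⟩
  set c := Nat.findGreatest (fun c => c ^ 3 ≤ n) n with hcdef
  have hc : c ^ 3 ≤ n := Nat.findGreatest_spec (P := fun c => c ^ 3 ≤ n) (m := 0) (Nat.zero_le _) (by simp)
  have hlt : n < (c + 1) ^ 3 := by
    by_contra h
    rw [not_lt] at h
    have h' : c + 1 ≤ n := le_trans (Nat.le_self_pow (by norm_num) _) h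
    have := Nat.le_findGreatest (P := fun c => c ^ 3 ≤ n) h' h
    omega
  have hs := Nat.lt_succ_sqrt n
  have hcs : c ≤ Nat.sqrt n := by
    rw [Nat.le_sqrt]
    rcases Nat.eq_zero_or_pos c with h | h
    · simp [h]
    · exact le_trans (Nat.le_mul_of_pos_right _ h) (by rw [show c * c * c = c ^ 3 by ring]; exact hc)
  refine ⟨hlt, hcs, ?_⟩
  set L := Nat.log 2 n + 1 with hL
  have hn2 : n < 2 ^ L := Nat.lt_pow_succ_log_self (by norm_num) n
  have hpow : 2 ^ (L - 1) ≤ n := by
    rw [hL, Nat.add_sub_cancel]; exact Nat.pow_log_le_self 2 (by omega)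
  have hL14 : 14 ≤ L := by
    by_contra h
    have h1 : 2 ^ L ≤ 2 ^ 13 := Nat.pow_le_pow_right (by norm_num) (by omega)
    norm_num at h1
    omega
  have hLc : L * L ≤ 16 * c := by
    by_contra h
    have h1 : (16 * (c + 1)) ^ 3 ≤ (L * L + 16) ^ 3 := Nat.pow_le_pow_left (by omega) 3
    rw [mul_pow] at h1
    have h2 := log_aux L hL14
    norm_num at h1
    omega
  have hLs : L * c ≤ 4 * (Nat.sqrt n + 1) := by
    by_contra h
    rw [not_le] at h
    have h1 := Nat.mul_self_lt_mul_self h
    have h2 : (L * c) * (L * c) ≤ 16 * c ^ 3 := by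
      calc (L * c) * (L * c) = (L * L) * (c * c) := by ring
        _ ≤ (16 * c) * (c * c) := Nat.mul_le_mul_right _ hLc
        _ = 16 * c ^ 3 := by ring
    rw [Nat.succ_eq_add_one] at hs
    nlinarith
  calc n ^ c ≤ (2 ^ L) ^ c := Nat.pow_le_pow_left hn2.le c
    _ = 2 ^ (L * c) := (pow_mul _ _ _).symm
    _ ≤ _ := Nat.pow_le_pow_right (by norm_num) hLs

theorem choose_le (hn : 8192 ≤ n) (hkn : k ≤ n) (hS : Small n k) {K : ℕ} (hK : Nat.sqrt n ≤ K)
    (hzero : ∀ p : ℕ, p.Prime → K < p → p ≤ k → (n.choose k).factorization p = 0) :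
    n.choose k ≤ 2 ^ (2 * K + 6 * Nat.sqrt n + 4) := by
  obtain ⟨c, hc3, hcs, hcn⟩ := root_bound hn
  set s := Nat.sqrt n with hsdef
  have hss : n < (s + 1) * (s + 1) := Nat.lt_succ_sqrt n
  have key : ∀ p ∈ T k, p ^ (n.choose k).factorization p ≤
      (if p ≤ K then p else 1) * (if p ≤ s then p else 1) * (if p ≤ c then n else 1) := by
    intro p hp
    simp only [T, mem_filter, mem_range] at hp
    obtain ⟨hpk, hp⟩ := hp
    have h1 := hp.one_le
    by_cases hpc : p ≤ c
    · rw [if_pos (le_trans (le_trans hpc hcs) hK), if_pos (le_trans hpc hcs), if_pos hpc]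
      refine le_trans (Nat.pow_factorization_choose_le (by omega)) ?_
      exact Nat.le_mul_of_pos_left _ (by positivity)
    rw [if_neg hpc, mul_one]
    have hlog : (n.choose k).factorization p ≤ 2 := by
      refine le_trans Nat.factorization_choose_le_log (Nat.lt_succ_iff.mp ?_)
      refine Nat.log_lt_of_lt_pow (by omega) (lt_of_lt_of_le hc3 (Nat.pow_le_pow_left (by omega) 3))
    by_cases hps : p ≤ s
    · rw [if_pos (le_trans hps hK), if_pos hps]
      calc p ^ (n.choose k).factorization p ≤ p ^ 2 := Nat.pow_le_pow_right h1 hlog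
        _ = p * p := pow_two p
    rw [if_neg hps, mul_one]
    have hone : (n.choose k).factorization p ≤ 1 := by
      refine Nat.factorization_choose_le_one ?_
      rw [pow_two]
      exact lt_of_lt_of_le hss (Nat.mul_self_le_mul_self (by omega))
    by_cases hpK : p ≤ K
    · rw [if_pos hpK]
      calc p ^ (n.choose k).factorization p ≤ p ^ 1 := Nat.pow_le_pow_right h1 hone
        _ = p := pow_one p
    · rw [if_neg hpK, hzero p hp (by omega) (by omega), pow_zero]
  rw [choose_eq_prod hkn hS]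
  refine (prod_le_prod' key).trans ?_
  rw [prod_mul_distrib, prod_mul_distrib, ← prod_filter, ← prod_filter, ← prod_filter]
  have hprim : ∀ B : ℕ, ∏ p ∈ (T k).filter (· ≤ B), p ≤ 2 ^ (2 * B) := by
    intro B
    rw [pow_mul, show (2 : ℕ) ^ 2 = 4 by norm_num]
    refine le_trans ?_ (primorial_le_four_pow B)
    refine prod_le_prod_of_subset_of_one_le' ?_ ?_
    · intro p hp
      simp only [T, mem_filter, mem_range] at hp ⊢
      exact ⟨by omega, hp.1.2⟩
    · intro p hp _
      simp only [mem_filter] at hp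
      exact hp.2.one_le
  have hsmall : ∏ _p ∈ (T k).filter (· ≤ c), n ≤ n ^ c := by
    rw [prod_const]
    refine Nat.pow_le_pow_right (by omega) (le_trans (card_le_card (t := Icc 1 c) ?_) (by simp))
    intro p hp
    simp only [T, mem_filter, mem_range, mem_Icc] at hp ⊢
    exact ⟨hp.1.2.one_le, hp.2⟩
  calc _ ≤ 2 ^ (2 * K) * 2 ^ (2 * s) * 2 ^ (4 * (s + 1)) :=
        Nat.mul_le_mul (Nat.mul_le_mul (hprim K) (hprim s)) (hsmall.trans hcn)
    _ = _ := by rw [← pow_add, ← pow_add]; congr 1; ring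

theorem big_core (hk : 4096 ≤ k) (hn : 2 * k ≤ n) (hS : Small n k) {K : ℕ} (hK : Nat.sqrt n ≤ K)
    (hzero : ∀ p : ℕ, p.Prime → K < p → p ≤ k → (n.choose k).factorization p = 0) :
    2 ^ (2 * k) * n ^ k ≤ 2 ^ (2 * K + 8 * Nat.sqrt n) * (2 * k) ^ k := by
  have h1 := choose_le (by omega) (by omega) hS hK hzero
  have h2 := choose_ineq (n := n) (k := k) (2 * k) (by omega) hn
  have h3 := Nat.four_pow_le_two_mul_add_one_mul_central_binom k
  have hs10 : 10 ≤ Nat.sqrt n := Nat.le_sqrt.mpr (by omega)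
  have h4 : 2 * k + 1 ≤ 2 ^ Nat.sqrt n := by
    refine le_trans ?_ (succ_sq_le _ hs10)
    have : n < (Nat.sqrt n + 1) * (Nat.sqrt n + 1) := Nat.lt_succ_sqrt n
    omega
  calc 2 ^ (2 * k) * n ^ k ≤ (2 * k + 1) * (2 * k).choose k * n ^ k := by
        refine Nat.mul_le_mul_right _ ?_
        rw [pow_mul]; exact h3
    _ ≤ 2 ^ Nat.sqrt n * ((2 * k).choose k * n ^ k) := by
        rw [mul_assoc]; exact Nat.mul_le_mul_right _ h4
    _ ≤ 2 ^ Nat.sqrt n * (2 ^ (2 * K + 6 * Nat.sqrt n + 4) * (2 * k) ^ k) :=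
        Nat.mul_le_mul_left _ (h2.trans (Nat.mul_le_mul_right _ h1))
    _ ≤ _ := by
        rw [← mul_assoc, ← pow_add]
        exact Nat.mul_le_mul_right _ (Nat.pow_le_pow_right (by norm_num) (by omega))

theorem not_small_large (hk : 4096 ≤ k) (hn : 2 * k ≤ n) (hS : Small n k) : False := by
  have hsq := le_sq (by omega) (by omega) hS
  set s := Nat.sqrt n with hs
  have hs2 : s * s ≤ n := Nat.sqrt_le n
  by_cases h52 : 2 * n < 5 * k
  · have h3s : 3 * s ≤ n := by nlinarith
    have h := big_core hk hn hS (K := n / 3) (by omega) (by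
      intro p hp hK hpk
      refine Nat.factorization_choose_of_lt_three_mul ?_ hpk (by omega) (by omega)
      have hs10 : 10 ≤ s := Nat.le_sqrt.mpr (by omega)
      omega)
    have h2 : 2 ^ (2 * k) * n ^ k ≤ 2 ^ (2 * (n / 3) + 8 * s) * n ^ k :=
      h.trans (Nat.mul_le_mul_left _ (Nat.pow_le_pow_left hn k))
    have h3 : 2 * k ≤ 2 * (n / 3) + 8 * s :=
      (Nat.pow_le_pow_iff_right (by norm_num)).mp (Nat.le_of_mul_le_mul_right h2 (pow_pos (by omega) _))
    have h4 : k ≤ 24 * s := by omega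
    nlinarith
  have hsk : s ≤ k := by nlinarith
  have h := big_core hk hn hS (K := k) hsk (by omega)
  rw [pow_add] at h
  have h' : n ^ k ≤ 2 ^ (8 * s) * (2 * k) ^ k :=
    Nat.le_of_mul_le_mul_left (by rw [← mul_assoc]; exact h) (by positivity)
  have key : ∀ a : ℕ, 2 ^ a * (2 * k) ≤ n → a * k ≤ 8 * s := by
    intro a ha
    have := (Nat.pow_le_pow_left ha k).trans h'
    rw [mul_pow, ← pow_mul] at this
    exact (Nat.pow_le_pow_iff_right (by norm_num)).mp (Nat.le_of_mul_le_mul_right this (by positivity))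
  by_cases c1 : n < 4 * k
  · have h5 : 5 ^ k * (2 * k) ^ k ≤ 4 ^ k * 2 ^ (8 * s) * (2 * k) ^ k := by
      calc 5 ^ k * (2 * k) ^ k = (5 * (2 * k)) ^ k := (mul_pow _ _ _).symm
        _ ≤ (4 * n) ^ k := Nat.pow_le_pow_left (by omega) k
        _ = 4 ^ k * n ^ k := mul_pow _ _ _
        _ ≤ _ := by rw [mul_assoc]; exact Nat.mul_le_mul_left _ h'
    have h6 := Nat.pow_le_pow_left (Nat.le_of_mul_le_mul_right h5 (by positivity)) 28
    have h7 : (4 ^ 28 * 2 ^ 9) ^ k ≤ (5 ^ 28) ^ k := Nat.pow_le_pow_left (by norm_num) k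
    rw [← pow_mul, mul_comm k 28, pow_mul] at h6
    rw [mul_pow (4 ^ k), ← pow_mul 4 k 28, mul_comm k 28, pow_mul 4 28 k] at h6
    rw [mul_pow] at h7
    have h8 : (2 ^ 9) ^ k ≤ (2 ^ (8 * s)) ^ 28 :=
      Nat.le_of_mul_le_mul_left (h7.trans h6) (by positivity)
    rw [← pow_mul, ← pow_mul] at h8
    have := (Nat.pow_le_pow_iff_right (by norm_num)).mp h8
    nlinarith
  by_cases c2 : n < 16 * k
  · have := key 1 (by omega)
    nlinarith
  by_cases c3 : n < 256 * k
  · have := key 3 (by omega)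
    nlinarith
  by_cases c4 : n < 2048 * k
  · have := key 7 (by omega)
    nlinarith
  have := key 10 (by omega)
  omega

/-! ### `k < 4097` -/

/-- An interval of `k`, a prime count, a bound for `n` and a prime chain. -/
structure Row where
  lo : ℕ
  hi : ℕ
  P : ℕ
  N : ℕ
  chain : List ℕ

/-- A necessary condition for primality. -/
def maybePrime (p : ℕ) : Bool := decide (2 ≤ p) && (List.range 65).all fun d => d < 2 || p % d != 0 || d == p

theorem maybePrime_of_prime {p : ℕ} (hp : p.Prime) : maybePrime p = true := by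
  simp only [maybePrime, Bool.and_eq_true, decide_eq_true_eq, List.all_eq_true, List.mem_range,
    Bool.or_eq_true, bne_iff_ne, beq_iff_eq]
  refine ⟨hp.two_le, fun d _ => ?_⟩
  by_cases h : p % d = 0
  · rcases hp.eq_one_or_self_of_dvd d (Nat.dvd_of_mod_eq_zero h) with h1 | h1
    · exact Or.inl (Or.inl (by omega))
    · exact Or.inr h1
  · exact Or.inl (Or.inr h)

/-- A sufficient condition for primality. -/
def surePrime (p : ℕ) : Bool :=
  decide (2 ≤ p) && decide (p < 170 * 170) && (List.range 170).all fun d => d < 2 || p % d != 0 || p ≤ d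

theorem prime_of_surePrime {p : ℕ} (h : surePrime p = true) : p.Prime := by
  simp only [surePrime, Bool.and_eq_true, decide_eq_true_eq, List.all_eq_true, List.mem_range,
    Bool.or_eq_true, bne_iff_ne] at h
  obtain ⟨⟨h2, hlt⟩, hd⟩ := h
  refine Nat.prime_def_le_sqrt.mpr ⟨h2, fun m hm hms hdvd => ?_⟩
  have hm2 : m * m ≤ p := Nat.le_sqrt.mp hms
  have hm170 : m < 170 := by
    by_contra hc
    have := Nat.mul_self_le_mul_self (Nat.le_of_not_lt hc)
    omega
  have hmod : p % m = 0 := Nat.mod_eq_zero_of_dvd hdvd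
  rcases hd m hm170 with (h1 | h1) | h1
  · omega
  · exact h1 hmod
  · have := Nat.mul_le_mul hm (le_refl m)
    omega

/-- Every point from the first element up to `N` is within `lo` above an element. -/
def covers (lo N : ℕ) : List ℕ → Bool
  | [] => false
  | [a] => decide (N ≤ a + lo)
  | a :: b :: l => decide (b ≤ a + lo) && covers lo N (b :: l)

theorem exists_of_covers {lo N : ℕ} : ∀ {l : List ℕ}, covers lo N l = true →
    ∀ {m : ℕ}, (∀ a, l.head? = some a → a ≤ m) → m < N → ∃ p ∈ l, p ≤ m ∧ m < p + lo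
  | [], h, _, _, _ => by simp [covers] at h
  | [a], h, m, ha, hm => by
    simp only [covers, decide_eq_true_eq] at h
    exact ⟨a, by simp, ha a rfl, by omega⟩
  | a :: b :: l, h, m, ha, hm => by
    simp only [covers, Bool.and_eq_true, decide_eq_true_eq] at h
    by_cases hb : b ≤ m
    · obtain ⟨p, hp, h1⟩ := exists_of_covers h.2 (m := m) (fun x hx => by cases hx; exact hb) hm
      exact ⟨p, List.mem_cons_of_mem _ hp, h1⟩
    · exact ⟨a, by simp, ha a rfl, by omega⟩

/-- The check of an interval. -/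
def Row.ok (r : Row) : Bool :=
  decide (1 ≤ r.lo) && decide (r.P < r.lo) &&
  decide (((List.range r.hi).filter maybePrime).length ≤ r.P) &&
  decide ((r.hi - 1) ^ r.lo < r.N ^ (r.lo - r.P)) &&
  r.chain.all surePrime && covers r.lo r.N r.chain && decide (r.chain.headD 0 ≤ 2 * r.lo)

theorem dvd_choose_of_range {p m : ℕ} (hp : p.Prime) (hpk : k < p) (hm1 : m ≤ n) (hm2 : n < m + k)
    (hpm : p ∣ m) : p ∣ n.choose k := by
  have h : p ∣ n.descFactorial k := by
    rw [Nat.descFactorial_eq_prod_range]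
    exact hpm.trans (by simpa [show n - (n - m) = m by omega] using
      Finset.dvd_prod_of_mem (fun i => n - i) (mem_range.mpr (show n - m < k by omega)))
  rw [Nat.descFactorial_eq_factorial_mul_choose] at h
  rcases hp.dvd_mul.mp h with h | h
  · exact absurd (hp.dvd_factorial.mp h) (by omega)
  · exact h

theorem Row.not_small (r : Row) (hr : r.ok = true) (hlo : r.lo ≤ k) (hhi : k < r.hi)
    (hn : 2 * k ≤ n) (hS : Small n k) : False := by
  simp only [Row.ok, Bool.and_eq_true, decide_eq_true_eq, List.all_eq_true] at hr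
  obtain ⟨⟨⟨⟨⟨⟨h1, h2⟩, h3⟩, h4⟩, h5⟩, h6⟩, h7⟩ := hr
  have hcard : (T k).card ≤ r.P := by
    refine le_trans (le_trans (card_le_card (t := ((List.range r.hi).filter maybePrime).toFinset) ?_)
      (List.toFinset_card_le _)) h3
    intro p hp
    simp only [T, mem_filter, mem_range] at hp
    simp only [List.mem_toFinset, List.mem_filter, List.mem_range]
    exact ⟨by omega, maybePrime_of_prime hp.2⟩
  have hnN : n < r.N := by
    by_contra hc
    rw [not_lt] at hc
    have e1 := pow_ineq (by omega) (show k ≤ n by omega) hS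
    have hle : (r.lo - r.P) * k ≤ (k - (T k).card) * r.lo := by
      rw [Nat.sub_mul, Nat.sub_mul]
      have a1 : (T k).card * r.lo ≤ r.P * k := Nat.mul_le_mul hcard hlo
      rw [mul_comm r.lo k]
      omega
    have e2 : (n ^ (r.lo - r.P)) ^ k ≤ (k ^ r.lo) ^ k := by
      rw [← pow_mul, ← pow_mul, mul_comm r.lo k, pow_mul k k r.lo]
      refine le_trans (Nat.pow_le_pow_right (by omega) hle) ?_
      rw [pow_mul]
      exact Nat.pow_le_pow_left e1 _
    have e3 : n ^ (r.lo - r.P) ≤ k ^ r.lo := (Nat.pow_le_pow_iff_left (by omega)).mp e2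
    have e4 : k ^ r.lo ≤ (r.hi - 1) ^ r.lo := Nat.pow_le_pow_left (by omega) _
    have e5 : r.N ^ (r.lo - r.P) ≤ n ^ (r.lo - r.P) := Nat.pow_le_pow_left hc _
    omega
  obtain ⟨p, hp, hp1, hp2⟩ := exists_of_covers h6 (m := n) (fun a ha => by
    have : r.chain.headD 0 = a := by cases hc : r.chain <;> simp_all
    omega) hnN
  have hpp := prime_of_surePrime (h5 p hp)
  have := hS p hpp (dvd_choose_of_range hpp (by omega) hp1 (by omega) dvd_rfl)
  omega

/-- The interval `[14, 15)`. -/
def row0 : Row := ⟨14, 15, 6, 102,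
  [23, 37, 47, 61, 73, 83, 97]⟩

/-- The interval `[15, 16)`. -/
def row1 : Row := ⟨15, 16, 6, 92,
  [29, 43, 53, 67, 79]⟩

/-- The interval `[16, 18)`. -/
def row2 : Row := ⟨16, 18, 7, 154,
  [31, 47, 61, 73, 89, 103, 113, 127, 139]⟩

/-- The interval `[18, 21)`. -/
def row3 : Row := ⟨18, 21, 8, 220,
  [31, 47, 61, 79, 97, 113, 131, 149, 167, 181, 199, 211]⟩

/-- The interval `[21, 24)`. -/
def row4 : Row := ⟨21, 24, 9, 242,
  [41, 61, 79, 97, 113, 131, 151, 167, 181, 199, 211, 229]⟩

/-- The interval `[24, 28)`. -/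
def row5 : Row := ⟨24, 28, 9, 196,
  [47, 71, 89, 113, 137, 157, 181]⟩

/-- The interval `[28, 34)`. -/
def row6 : Row := ⟨28, 34, 11, 318,
  [53, 79, 107, 131, 157, 181, 199, 227, 251, 277, 293]⟩

/-- The interval `[34, 40)`. -/
def row7 : Row := ⟨34, 40, 12, 288,
  [67, 101, 131, 163, 197, 229, 263]⟩

/-- The interval `[40, 48)`. -/
def row8 : Row := ⟨40, 48, 15, 474,
  [79, 113, 151, 191, 229, 269, 307, 347, 383, 421, 461]⟩

/-- The interval `[48, 64)`. -/
def row9 : Row := ⟨48, 64, 18, 757,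
  [89, 137, 181, 229, 277, 317, 359, 401, 449, 491, 523, 571, 619, 661, 709]⟩

/-- The interval `[64, 128)`. -/
def row10 : Row := ⟨64, 128, 31, 12026,
  [127, 191, 251, 313, 373, 433, 491, 547, 607, 661, 719, 773, 829, 887, 947, 1009, 1069, 1129, 1193, 1249, 1307, 1367, 1429, 1493, 1553, 1613, 1669, 1733, 1789, 1847, 1907, 1951, 2011, 2069, 2131, 2179, 2243, 2297, 2357, 2417, 2477, 2539, 2593, 2657, 2719, 2777, 2837, 2897, 2957, 3019, 3083, 3137, 3191, 3253, 3313, 3373, 3433, 3491, 3547, 3607, 3671, 3733, 3797, 3853, 3917, 3967, 4027, 4091, 4153, 4217, 4273, 4337, 4397, 4457, 4519, 4583, 4643, 4703, 4759, 4817, 4877, 4937, 4999, 5059, 5119, 5179, 5237, 5297, 5351, 5413, 5477, 5531, 5591, 5653, 5717, 5779, 5843, 5903, 5953, 6011, 6073, 6133, 6197, 6257, 6317, 6379, 6427, 6491, 6553, 6607, 6661, 6719, 6781, 6841, 6899, 6961, 7019, 7079, 7129, 7193, 7253, 7309, 7369, 7433, 7489, 7549, 7607, 7669, 7727, 7789, 7853, 7907, 7963, 8017, 8081, 8123, 8179, 8243, 8297, 8353, 8389, 8447, 8501, 8563,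 8627, 8689, 8753, 8807, 8867, 8929, 8971, 9029, 9091, 9151, 9209, 9257, 9319, 9377, 9439, 9497, 9551, 9613, 9677, 9739, 9803, 9859, 9923, 9973, 10037, 10099, 10163, 10223, 10273, 10337, 10399, 10463, 10513, 10567, 10631, 10691, 10753, 10799, 10861, 10909, 10973, 11027, 11087, 11149, 11213, 11273, 11329, 11393, 11447, 11503, 11551, 11597, 11657, 11719, 11783, 11839, 11903, 11959, 12011]⟩

/-- The interval `[128, 192)`. -/
def row11 : Row := ⟨128, 192, 43, 2723,
  [251, 379, 503, 631, 757, 883, 1009, 1129, 1249, 1373, 1499, 1627, 1753, 1879, 2003, 2131, 2251, 2377, 2503, 2621]⟩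

/-- The interval `[192, 256)`. -/
def row12 : Row := ⟨192, 256, 54, 2230,
  [383, 571, 761, 953, 1129, 1321, 1511, 1699, 1889, 2081]⟩

/-- The interval `[256, 384)`. -/
def row13 : Row := ⟨256, 384, 76, 4720,
  [509, 761, 1013, 1259, 1511, 1759, 2011, 2267, 2521, 2777, 3023, 3271, 3527, 3779, 4027, 4283, 4523]⟩

/-- The interval `[384, 512)`. -/
def row14 : Row := ⟨384, 512, 97, 4206,
  [761, 1129, 1511, 1889, 2273, 2657, 3041, 3413, 3797, 4177]⟩

/-- The interval `[512, 768)`. -/
def row15 : Row := ⟨512, 768, 135, 8276,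
  [1021, 1531, 2039, 2551, 3061, 3571, 4079, 4591, 5101, 5591, 6101, 6607, 7109, 7621, 8123]⟩

/-- The interval `[768, 1024)`. -/
def row16 : Row := ⟨768, 1024, 172, 7560,
  [1531, 2297, 3061, 3823, 4591, 5351, 6113, 6871]⟩

/-- The interval `[1024, 1536)`. -/
def row17 : Row := ⟨1024, 1536, 242, 14863,
  [2039, 3061, 4079, 5101, 6121, 7129, 8147, 9161, 10181, 11197, 12211, 13229, 14251]⟩

/-- The interval `[1536, 2048)`. -/
def row18 : Row := ⟨1536, 2048, 309, 13963,
  [3067, 4603, 6133, 7669, 9203, 10739, 12269, 13799]⟩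

/-- The interval `[2048, 3072)`. -/
def row19 : Row := ⟨2048, 3072, 439, 27464,
  [4093, 6133, 8179, 10223, 12269, 14303, 16349, 18397, 20443, 22483, 24527, 26573]⟩

/-- The interval `[3072, 4097)`. -/
def row20 : Row := ⟨3072, 4097, 564, 26590,
  [6143, 9209, 12281, 15349, 18413, 21481, 24551]⟩

/-- All intervals. -/
def rows : List Row := [row0, row1, row2, row3, row4, row5, row6, row7, row8, row9, row10, row11, row12, row13, row14, row15, row16, row17, row18, row19, row20]

theorem rows_ok : rows.all Row.ok = true := by decide +kernel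

/-- Bounds on `n` for `2 ≤ k < 14`. -/
def tinyN : List ℕ := [5, 28, 17, 56, 37, 94, 65, 53, 47, 82, 71, 118]

/-- The primes below `120`. -/
def primes120 : List ℕ := (List.range 120).filter surePrime

/-- The check for `k < 14`. -/
def tinyOK : Bool := (List.range 12).all fun i =>
  decide (((List.range (i + 3)).filter maybePrime).length ≤ i + 1) &&
  decide ((i + 2) ^ (i + 2) <
    (tinyN.getD i 0) ^ (i + 2 - ((List.range (i + 3)).filter maybePrime).length)) &&
  (List.range (tinyN.getD i 0)).all fun n => decide (n < 2 * (i + 2)) ||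
    (List.range (i + 2)).any fun j => primes120.any fun p => decide (i + 2 < p) && (n - j) % p == 0

theorem tiny_ok : tinyOK = true := by decide +kernel

theorem not_small_tiny (hk : 2 ≤ k) (hk14 : k < 14) (hn : 2 * k ≤ n) (hS : Small n k) : False := by
  have h := List.all_eq_true.mp tiny_ok (k - 2) (List.mem_range.mpr (by omega))
  simp only [show k - 2 + 2 = k by omega, show k - 2 + 3 = k + 1 by omega, Bool.and_eq_true,
    decide_eq_true_eq, List.all_eq_true, List.mem_range, Bool.or_eq_true, List.any_eq_true,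
    beq_iff_eq] at h
  obtain ⟨⟨-, h2⟩, h3⟩ := h
  have hcard : (T k).card ≤ ((List.range (k + 1)).filter maybePrime).length := by
    refine le_trans (card_le_card (t := ((List.range (k + 1)).filter maybePrime).toFinset) ?_)
      (List.toFinset_card_le _)
    intro p hp
    simp only [T, mem_filter, mem_range] at hp
    simp only [List.mem_toFinset, List.mem_filter, List.mem_range]
    exact ⟨hp.1, maybePrime_of_prime hp.2⟩
  have hnN : n < tinyN.getD (k - 2) 0 := by
    by_contra hc
    rw [not_lt] at hc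
    have e1 := pow_ineq (by omega) (show k ≤ n by omega) hS
    have e2 := Nat.pow_le_pow_left hc (k - ((List.range (k + 1)).filter maybePrime).length)
    have e3 : n ^ (k - ((List.range (k + 1)).filter maybePrime).length) ≤ n ^ (k - (T k).card) :=
      Nat.pow_le_pow_right (by omega) (by omega)
    omega
  rcases h3 n hnN with h | ⟨j, hj, p, hp, hkp, hmod⟩
  · omega
  · have hpp := prime_of_surePrime (List.mem_filter.mp hp).2
    have := hS p hpp (dvd_choose_of_range hpp hkp (m := n - j) (by omega) (by omega)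
      (Nat.dvd_of_mod_eq_zero hmod))
    omega

/-- Sylvester's theorem. -/
theorem exists_prime_gt_dvd_choose {n k : ℕ} (hk : 1 ≤ k) (hn : 2 * k ≤ n) :
    ∃ p, p.Prime ∧ k < p ∧ p ∣ n.choose k := by
  by_contra hne
  have hS : Small n k := fun p hp hd => by
    by_contra h
    exact hne ⟨p, hp, by omega, hd⟩
  rcases Nat.lt_or_ge k 2 with h1 | h1
  · obtain rfl : k = 1 := by omega
    obtain ⟨p, hp, hd⟩ := Nat.exists_prime_and_dvd (show n ≠ 1 by omega)
    exact hne ⟨p, hp, hp.one_lt, by rwa [Nat.choose_one_right]⟩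
  rcases Nat.lt_or_ge k 14 with h2 | h2
  · exact not_small_tiny h1 h2 hn hS
  rcases Nat.lt_or_ge k 4096 with h3 | h3
  · have hex : rows.any (fun r => decide (r.lo ≤ k) && decide (k < r.hi)) = true := by
      simp only [rows, List.any_cons, List.any_nil, Bool.or_false, Bool.or_eq_true, Bool.and_eq_true,
        decide_eq_true_eq, row0, row1, row2, row3, row4, row5, row6, row7, row8, row9, row10, row11,
        row12, row13, row14, row15, row16, row17, row18, row19, row20]
      omega
    obtain ⟨r, hr, hrk⟩ := List.any_eq_true.mp hex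
    simp only [Bool.and_eq_true, decide_eq_true_eq] at hrk
    exact r.not_small (List.all_eq_true.mp rows_ok r hr) hrk.1 hrk.2 hn hS
  · exact not_small_large h3 hn hS

end CfsgLib.Derangement.Sylv
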