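import Mathlib

set_option autoImplicit false

/-! Derangements in transitive groups: at least the proportion `2/n`, except sharply
2-transitive groups. Elementary proof via Cameron-Cohen counting. -/

namespace CfsgLib.Derangement

open Classical in
/-- Number of fixed points. -/
noncomputable def fx {G : Type*} (Ω : Type*) [Group G] [MulAction G Ω] [Fintype Ω] (g : G) : ℕ :=
  (Finset.univ.filter (fun x : Ω => g • x = x)).card

variable {G Ω : Type*} [Group G] [MulAction G Ω] [Fintype Ω]

/-- The pair stabilizer. -/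
abbrev P (G : Type*) {Ω : Type*} [Group G] [MulAction G Ω] (x y : Ω) : Subgroup G :=
  MulAction.stabilizer G ((x, y) : Ω × Ω)

omit [Fintype Ω] in
lemma mem_P {x y : Ω} {g : G} : g ∈ P G x y ↔ g • x = x ∧ g • y = y := by
  simp [MulAction.mem_stabilizer_iff]

open Classical in
/-- Points fixed by a subgroup. -/
noncomputable def fixSet (Ω : Type*) [MulAction G Ω] [Fintype Ω] (K : Subgroup G) : Finset Ω :=
  Finset.univ.filter (fun z : Ω => ∀ k ∈ K, k • z = z)

lemma mem_fixSet {K : Subgroup G} {z : Ω} : z ∈ fixSet Ω K ↔ ∀ k ∈ K, k • z = z := by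
  simp [fixSet]

lemma exists_ne_one {G : Type*} [Group G] {K : Subgroup G} (h : K ≠ ⊥) : ∃ k ∈ K, k ≠ 1 := by
  obtain ⟨⟨k, hk⟩, hk1⟩ := (Subgroup.ne_bot_iff_exists_ne_one).1 h
  exact ⟨k, hk, fun e => hk1 (Subtype.ext e)⟩

lemma fx_one : fx Ω (1 : G) = Fintype.card Ω := by
  simp [fx]

lemma fx_le (g : G) : fx Ω g ≤ Fintype.card Ω := by
  classical
  exact Finset.card_le_univ _

lemma fx_conj (a g : G) : fx Ω (a * g * a⁻¹) = fx Ω g := by
  classical
  symm
  refine Finset.card_bij' (fun x _ => a • x) (fun x _ => a⁻¹ • x) ?_ ?_ ?_ ?_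
  · intro x hx
    simp only [Finset.mem_filter, Finset.mem_univ, true_and] at hx ⊢
    rw [mul_smul, mul_smul, inv_smul_smul, hx]
  · intro x hx
    simp only [Finset.mem_filter, Finset.mem_univ, true_and] at hx ⊢
    rw [mul_smul, mul_smul] at hx
    conv_rhs => rw [← hx]
    rw [inv_smul_smul]
  · intro x _; simp
  · intro x _; simp

/-- Cameron-Cohen identity. -/
lemma cameron_cohen [Fintype G] (hG : ∑ g : G, fx Ω g = Fintype.card G) :
    Fintype.card Ω * Nat.card {g : G // ∀ ω : Ω, g • ω ≠ ω} + Fintype.card G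
      = ∑ g : G, fx Ω g ^ 2 + ∑ g : G, (fx Ω g - 1) * (Fintype.card Ω - fx Ω g) := by
  classical
  have hd : Nat.card {g : G // ∀ ω : Ω, g • ω ≠ ω} = ∑ g : G, (if fx Ω g = 0 then 1 else 0) := by
    rw [Nat.card_eq_fintype_card, Fintype.card_subtype, Finset.card_filter]
    refine Finset.sum_congr rfl fun g _ => ?_
    refine if_congr ?_ rfl rfl
    simp [fx, Finset.filter_eq_empty_iff]
  have hpt : ∀ g : G, Fintype.card Ω * (if fx Ω g = 0 then 1 else 0) + (Fintype.card Ω + 1) * fx Ω g
      = Fintype.card Ω + fx Ω g ^ 2 + (fx Ω g - 1) * (Fintype.card Ω - fx Ω g) := by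
    intro g
    by_cases h : fx Ω g = 0
    · simp [h]
    · obtain ⟨k, hk⟩ : ∃ k, fx Ω g = k + 1 := ⟨fx Ω g - 1, by omega⟩
      obtain ⟨j, hj⟩ := Nat.exists_eq_add_of_le (fx_le (Ω := Ω) g)
      simp only [hk, if_neg (Nat.succ_ne_zero k)] at *
      rw [hj, Nat.add_sub_cancel_left, Nat.add_sub_cancel]
      ring
  have hs := Finset.sum_congr (rfl : (Finset.univ : Finset G) = Finset.univ) (fun g _ => hpt g)
  rw [Finset.sum_add_distrib, Finset.sum_add_distrib, Finset.sum_add_distrib, ← Finset.mul_sum,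
    ← Finset.mul_sum, hG, Finset.sum_const, Finset.card_univ, smul_eq_mul, ← hd] at hs
  nlinarith [hs]

lemma sum_fx [Fintype G] [Nonempty Ω] (htr : MulAction.IsPretransitive G Ω) :
    ∑ g : G, fx Ω g = Fintype.card G := by
  classical
  have h := MulAction.sum_card_fixedBy_eq_card_orbits_mul_card_group G Ω
  have h1 : Fintype.card (Quotient (MulAction.orbitRel G Ω)) = 1 := by
    rw [Fintype.card_eq_one_iff]
    obtain ⟨x⟩ := ‹Nonempty Ω›
    refine ⟨⟦x⟧, fun q => ?_⟩
    induction q using Quotient.inductionOn with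
    | _ y => exact Quotient.sound (MulAction.exists_smul_eq G x y)
  rw [h1, one_mul] at h
  rw [← h]
  refine Finset.sum_congr rfl fun g _ => ?_
  rw [fx, Fintype.card_subtype]
  rfl

lemma sum_fx_sq [Fintype G] :
    ∑ g : G, fx Ω g ^ 2 = Nat.card (Quotient (MulAction.orbitRel G (Ω × Ω))) * Fintype.card G := by
  classical
  have h := MulAction.sum_card_fixedBy_eq_card_orbits_mul_card_group G (Ω × Ω)
  rw [Nat.card_eq_fintype_card, ← h]
  refine Finset.sum_congr rfl fun g _ => ?_
  rw [Fintype.card_subtype, sq, fx, ← Finset.card_product]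
  congr 1
  ext p
  simp [MulAction.mem_fixedBy, Prod.ext_iff]

lemma rank_ge_three [Fintype G] [Nonempty Ω] (hn : 2 ≤ Fintype.card Ω)
    (h2 : ¬ ∀ x y z w : Ω, x ≠ y → z ≠ w → ∃ g : G, g • x = z ∧ g • y = w) :
    3 * Fintype.card G ≤ ∑ g : G, fx Ω g ^ 2 := by
  classical
  rw [sum_fx_sq]
  refine Nat.mul_le_mul_right _ ?_
  push Not at h2
  obtain ⟨x, y, z, w, hxy, hzw, hno⟩ := h2
  rw [Nat.card_eq_fintype_card]
  let s : Finset (Quotient (MulAction.orbitRel G (Ω × Ω))) := {⟦(x, x)⟧, ⟦(x, y)⟧, ⟦(z, w)⟧}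
  have key : ∀ a b : Ω × Ω, (⟦a⟧ : Quotient (MulAction.orbitRel G (Ω × Ω))) = ⟦b⟧ →
      ∃ g : G, g • b = a := fun a b hab => Quotient.exact hab
  have h12 : (⟦(x, x)⟧ : Quotient (MulAction.orbitRel G (Ω × Ω))) ≠ ⟦(x, y)⟧ := by
    intro he
    obtain ⟨g, hg⟩ := key _ _ he
    simp only [Prod.smul_mk, Prod.mk.injEq] at hg
    exact hxy (smul_left_cancel g (hg.1.trans hg.2.symm))
  have h13 : (⟦(x, x)⟧ : Quotient (MulAction.orbitRel G (Ω × Ω))) ≠ ⟦(z, w)⟧ := by
    intro he
    obtain ⟨g, hg⟩ := key _ _ he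
    simp only [Prod.smul_mk, Prod.mk.injEq] at hg
    exact hzw (smul_left_cancel g (hg.1.trans hg.2.symm))
  have h23 : (⟦(x, y)⟧ : Quotient (MulAction.orbitRel G (Ω × Ω))) ≠ ⟦(z, w)⟧ := by
    intro he
    obtain ⟨g, hg⟩ := key _ _ he.symm
    simp only [Prod.smul_mk, Prod.mk.injEq] at hg
    exact hno g hg.1 hg.2
  calc 3 = s.card := by
        simp [s, h12, h13, h23]
    _ ≤ _ := Finset.card_le_univ s

section TwoTrans

variable [Fintype G] [FaithfulSMul G Ω]
variable (h2 : ∀ x y z w : Ω, x ≠ y → z ≠ w → ∃ g : G, g • x = z ∧ g • y = w)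

include h2 in
omit [Fintype G] [FaithfulSMul G Ω] [Fintype Ω] in
lemma P_conj {x y z w : Ω} (hxy : x ≠ y) (hzw : z ≠ w) :
    ∃ a : G, a • x = z ∧ a • y = w ∧ ∀ k, k ∈ P G z w ↔ a⁻¹ * k * a ∈ P G x y := by
  obtain ⟨a, h1, h1'⟩ := h2 x y z w hxy hzw
  refine ⟨a, h1, h1', fun k => ?_⟩
  rw [mem_P, mem_P, mul_smul, mul_smul, mul_smul, mul_smul, h1, h1', inv_smul_eq_iff,
    inv_smul_eq_iff, h1, h1']

include h2 in
omit [FaithfulSMul G Ω] [Fintype Ω] in
lemma card_P {x y z w : Ω} (hxy : x ≠ y) (hzw : z ≠ w) :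
    Nat.card (P G z w) = Nat.card (P G x y) := by
  obtain ⟨a, -, -, hk⟩ := P_conj h2 hxy hzw
  refine Nat.card_congr
    { toFun := fun k => ⟨a⁻¹ * k.1 * a, (hk k.1).1 k.2⟩
      invFun := fun k => ⟨a * k.1 * a⁻¹, (hk _).2 (by
        have e : a⁻¹ * (a * k.1 * a⁻¹) * a = k.1 := by group
        rw [e]; exact k.2)⟩
      left_inv := fun k => by ext; simp [mul_assoc]
      right_inv := fun k => by ext; simp [mul_assoc] }

include h2 in
omit [FaithfulSMul G Ω] in
lemma line_eq {x y z w : Ω} (hxy : x ≠ y) (hzw : z ≠ w)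
    (hz : z ∈ fixSet Ω (P G x y)) (hw : w ∈ fixSet Ω (P G x y)) : P G z w = P G x y := by
  symm
  refine Subgroup.eq_of_le_of_card_ge (fun k hk => mem_P.2 ⟨?_, ?_⟩) (card_P h2 hxy hzw).le
  · exact mem_fixSet.1 hz k hk
  · exact mem_fixSet.1 hw k hk

include h2 in
omit [FaithfulSMul G Ω] [Fintype G] in
lemma card_fixSet {x y z w : Ω} (hxy : x ≠ y) (hzw : z ≠ w) :
    (fixSet Ω (P G z w)).card = (fixSet Ω (P G x y)).card := by
  classical
  obtain ⟨a, -, -, hk⟩ := P_conj h2 hxy hzw
  symm
  refine Finset.card_bij' (fun u _ => a • u) (fun u _ => a⁻¹ • u) ?_ ?_ ?_ ?_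
  · intro u hu
    rw [mem_fixSet] at hu ⊢
    intro k hk'
    have := hu _ ((hk k).1 hk')
    rwa [mul_smul, mul_smul, inv_smul_eq_iff] at this
  · intro u hu
    rw [mem_fixSet] at hu ⊢
    intro k hk'
    have e : a⁻¹ * (a * k * a⁻¹) * a = k := by group
    have := hu (a * k * a⁻¹) ((hk _).2 (by rwa [e]))
    rw [mul_smul, mul_smul] at this
    conv_rhs => rw [← this]
    rw [inv_smul_smul]
  · intro u _; simp
  · intro u _; simp

include h2 in
/-- A non-identity element fixes at most `(n-1)/(f-1)` points. -/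
lemma fx_bound {α β : Ω} (hab : α ≠ β) (g : G) (hg : g ≠ 1) :
    fx Ω g * ((fixSet Ω (P G α β)).card - 1) ≤ Fintype.card Ω - 1 := by
  classical
  obtain ⟨d, hd⟩ : ∃ d : Ω, g • d ≠ d := by
    by_contra hc
    push Not at hc
    exact hg (FaithfulSMul.eq_of_smul_eq_smul (fun x : Ω => by simpa using hc x))
  let F := Finset.univ.filter (fun x : Ω => g • x = x)
  let S : Ω → Finset Ω := fun x => (fixSet Ω (P G d x)).erase d
  have hdx : ∀ x ∈ F, d ≠ x := by
    intro x hx he
    subst he
    simp only [F, Finset.mem_filter, Finset.mem_univ, true_and] at hx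
    exact hd hx
  have hcard : ∀ x ∈ F, (S x).card = (fixSet Ω (P G α β)).card - 1 := by
    intro x hx
    rw [Finset.card_erase_of_mem (mem_fixSet.2 fun k hk => (mem_P.1 hk).1),
      card_fixSet h2 hab (hdx x hx)]
  have hdisj : (F : Set Ω).PairwiseDisjoint S := by
    intro x hx x' hx' hne
    rw [Function.onFun, Finset.disjoint_left]
    intro z hz hz'
    simp only [S, Finset.mem_erase] at hz hz'
    have hx0 := hdx x (by simpa using hx)
    have hx0' := hdx x' (by simpa using hx')
    have e1 : P G d z = P G d x :=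
      line_eq h2 hx0 (Ne.symm hz.1) (mem_fixSet.2 fun k hk => (mem_P.1 hk).1) hz.2
    have e2 : P G d z = P G d x' :=
      line_eq h2 hx0' (Ne.symm hz'.1) (mem_fixSet.2 fun k hk => (mem_P.1 hk).1) hz'.2
    have hx'mem : x' ∈ fixSet Ω (P G d x) :=
      mem_fixSet.2 fun k hk => by
        rw [← e1, e2] at hk
        exact (mem_P.1 hk).2
    have e3 : P G x x' = P G d x :=
      line_eq h2 hx0 hne (mem_fixSet.2 fun k hk => (mem_P.1 hk).2) hx'mem
    have hgm : g ∈ P G x x' := by
      simp only [F, Finset.coe_filter, Set.mem_setOf_eq, Finset.mem_univ, true_and] at hx hx'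
      exact mem_P.2 ⟨hx, hx'⟩
    rw [e3] at hgm
    exact hd (mem_P.1 hgm).1
  have h := Finset.card_le_card (s := F.biUnion S) (t := Finset.univ.erase d) (by
    intro z hz
    simp only [Finset.mem_biUnion, S, Finset.mem_erase] at hz
    obtain ⟨x, -, hzd, -⟩ := hz
    simp [hzd])
  rw [Finset.card_biUnion hdisj, Finset.sum_congr rfl hcard, Finset.sum_const, smul_eq_mul,
    Finset.card_erase_of_mem (Finset.mem_univ d), Finset.card_univ] at h
  exact h

omit [FaithfulSMul G Ω] in
/-- Summing a class function weighted by the number of ordered pairs of fixed points. -/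
lemma sum_pairs {M : Type*} [AddCommMonoid M] (φ : G → M) {α β : Ω} (hab : α ≠ β)
    (h2 : ∀ x y z w : Ω, x ≠ y → z ≠ w → ∃ g : G, g • x = z ∧ g • y = w)
    (hφ : ∀ a g : G, φ (a * g * a⁻¹) = φ g) [DecidablePred (· ∈ P G α β)] :
    ∑ g : G, (fx Ω g * fx Ω g - fx Ω g) • φ g =
      (Fintype.card Ω * Fintype.card Ω - Fintype.card Ω) •
        ∑ h ∈ Finset.univ.filter (· ∈ P G α β), φ h := by
  classical
  have e : ∀ g : G, (fx Ω g * fx Ω g - fx Ω g) • φ g =
      ∑ p ∈ (Finset.univ : Finset Ω).offDiag, if g ∈ P G p.1 p.2 then φ g else 0 := by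
    intro g
    rw [← Finset.sum_filter, Finset.sum_const]
    congr 1
    rw [fx, ← Finset.offDiag_card]
    congr 1
    ext p
    simp only [Finset.mem_offDiag, Finset.mem_filter, Finset.mem_univ, true_and, mem_P]
    tauto
  rw [Finset.sum_congr rfl (fun g _ => e g), Finset.sum_comm, ← Finset.card_univ (α := Ω),
    ← Finset.offDiag_card, ← Finset.sum_const]
  refine Finset.sum_congr rfl fun p hp => ?_
  rw [← Finset.sum_filter]
  simp only [Finset.mem_offDiag, Finset.mem_univ, true_and] at hp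
  obtain ⟨a, -, -, hk⟩ := P_conj h2 hab hp
  refine Finset.sum_nbij' (fun k => a⁻¹ * k * a) (fun k => a * k * a⁻¹) ?_ ?_ ?_ ?_ ?_
  · intro k hk'
    simp only [Finset.mem_coe, Finset.mem_filter, Finset.mem_univ, true_and] at hk' ⊢
    exact (hk k).1 hk'
  · intro k hk'
    simp only [Finset.mem_coe, Finset.mem_filter, Finset.mem_univ, true_and] at hk' ⊢
    rw [hk]
    have e' : a⁻¹ * (a * k * a⁻¹) * a = k := by group
    rwa [e']
  · intro k _; group
  · intro k _; group
  · intro k _
    have e' : a * (a⁻¹ * k * a) * a⁻¹ = k := by group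
    conv_lhs => rw [← e', hφ]

end TwoTrans

/-- The `H`-orbit sizes control `∑ fx` over `H`. -/
lemma two_mul_sum_fx [Fintype G] (H : Subgroup G) [DecidablePred (· ∈ H)] :
    ∑ h ∈ Finset.univ.filter (· ∈ H), fx Ω h
      = ∑ x : Ω, Nat.card (MulAction.stabilizer H x) := by
  classical
  simp only [fx, Finset.card_filter]
  rw [Finset.sum_comm]
  refine Finset.sum_congr rfl fun x _ => ?_
  rw [← Finset.card_filter (fun h : G => h • x = x), Nat.card_eq_fintype_card]
  symm
  refine Fintype.card_of_bijective (f := fun k : MulAction.stabilizer H x =>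
    (⟨(k.1.1 : G), by
      simp only [Finset.mem_filter, Finset.mem_univ, true_and]
      exact ⟨k.1.2, k.2⟩⟩ : (Finset.univ.filter (· ∈ H)).filter (fun h : G => h • x = x))) ?_ |>.trans
    (Fintype.card_coe _)
  constructor
  · intro a b hab
    simp only [Subtype.mk.injEq] at hab
    exact Subtype.ext (Subtype.ext hab)
  · rintro ⟨g, hg⟩
    simp only [Finset.mem_filter, Finset.mem_univ, true_and] at hg
    exact ⟨⟨⟨g, hg.1⟩, hg.2⟩, rfl⟩

section Orbits

variable [Fintype G] (H : Subgroup G)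

/-- Orbit as a finset. -/
noncomputable def orb (x : Ω) : Finset Ω :=
  (Set.toFinite (MulAction.orbit H x)).toFinset

lemma mem_orb {x y : Ω} : y ∈ orb H x ↔ ∃ h ∈ H, h • x = y := by
  rw [orb, Set.Finite.mem_toFinset, MulAction.mem_orbit_iff]
  exact ⟨fun ⟨m, hm⟩ => ⟨m.1, m.2, hm⟩, fun ⟨h, hh, e⟩ => ⟨⟨h, hh⟩, e⟩⟩

lemma self_mem_orb (x : Ω) : x ∈ orb H x := (mem_orb H).2 ⟨1, H.one_mem, one_smul _ _⟩

lemma orb_eq_of_mem {x y : Ω} (h : y ∈ orb H x) : orb H y = orb H x := by
  ext z
  simp only [orb, Set.Finite.mem_toFinset] at h ⊢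
  rw [MulAction.orbit_eq_iff.2 h]

lemma orb_mul_stab (x : Ω) :
    (orb H x).card * Nat.card (MulAction.stabilizer H x) = Nat.card H := by
  rw [← (MulAction.stabilizer H x).index_mul_card, MulAction.index_stabilizer, orb,
    ← Set.ncard_eq_toFinset_card]

lemma sum_orb (x : Ω) :
    ∑ y ∈ orb H x, Nat.card (MulAction.stabilizer H y) = Nat.card H := by
  have e : ∀ y ∈ orb H x,
      Nat.card (MulAction.stabilizer H y) = Nat.card (MulAction.stabilizer H x) := by
    intro y hy
    have h1 := orb_mul_stab H y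
    rw [orb_eq_of_mem H hy, ← orb_mul_stab H x] at h1
    exact Nat.eq_of_mul_eq_mul_left (Finset.card_pos.2 ⟨x, self_mem_orb H x⟩) h1
  rw [Finset.sum_congr rfl e, Finset.sum_const, smul_eq_mul, orb_mul_stab]

lemma stab_le (y : Ω) [DecidableEq Ω] :
    2 * Nat.card (MulAction.stabilizer H y) ≤
      Nat.card H * (1 + if y ∈ fixSet Ω H then 1 else 0) := by
  have h := orb_mul_stab H y
  have h1 : 1 ≤ (orb H y).card := Finset.card_pos.2 ⟨y, self_mem_orb H y⟩
  split_ifs with hy
  · nlinarith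
  · have h2 : 2 ≤ (orb H y).card := by
      rw [mem_fixSet] at hy
      push Not at hy
      obtain ⟨k, hk, hky⟩ := hy
      exact Finset.one_lt_card.2 ⟨y, self_mem_orb H y, k • y, (mem_orb H).2 ⟨k, hk, rfl⟩,
        fun e => hky e.symm⟩
    nlinarith

/-- Deficit bound: a set which is a union of `k` orbits. -/
lemma deficit [DecidableEq Ω] (U : Finset Ω) (k : ℕ)
    (hU : ∑ y ∈ U, Nat.card (MulAction.stabilizer H y) = k * Nat.card H)
    (hUf : ∀ y ∈ U, y ∉ fixSet Ω H) :
    2 * ∑ y : Ω, Nat.card (MulAction.stabilizer H y) + U.card * Nat.card H ≤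
      Nat.card H * (Fintype.card Ω + (fixSet Ω H).card) + 2 * k * Nat.card H := by
  classical
  rw [← Finset.sum_add_sum_compl U, mul_add, hU]
  have h1 : 2 * ∑ y ∈ Uᶜ, Nat.card (MulAction.stabilizer H y) ≤
      Nat.card H * (Uᶜ.card + (fixSet Ω H).card) := by
    rw [Finset.mul_sum]
    refine (Finset.sum_le_sum fun y _ => stab_le H y).trans ?_
    rw [← Finset.mul_sum, Finset.sum_add_distrib, Finset.sum_const, smul_eq_mul, mul_one,
      ← Finset.sum_filter, Finset.sum_const, smul_eq_mul, mul_one]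
    refine Nat.mul_le_mul_left _ (Nat.add_le_add_left (Finset.card_le_card ?_) _)
    intro y hy
    exact (Finset.mem_filter.1 hy).2
  rw [← Finset.card_add_card_compl U]
  nlinarith [h1]

end Orbits

section Main

variable [Fintype G] [FaithfulSMul G Ω]
variable (h2 : ∀ x y z w : Ω, x ≠ y → z ≠ w → ∃ g : G, g • x = z ∧ g • y = w)
variable {α β : Ω} (hab : α ≠ β)

omit [Fintype G] [FaithfulSMul G Ω] in
lemma offcard (m : ℕ) : m * m - m = m * (m - 1) := by
  rw [Nat.mul_sub, mul_one]

include h2 hab in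
omit [FaithfulSMul G Ω] in
lemma card_eq : Fintype.card G =
    Fintype.card Ω * (Fintype.card Ω - 1) * Nat.card (P G α β) := by
  classical
  have h := sum_pairs (G := G) (fun _ => (1 : ℕ)) hab h2 (fun _ _ => rfl)
  simp only [smul_eq_mul, mul_one, Finset.sum_const] at h
  have hP : (Finset.univ.filter (· ∈ P G α β)).card = Nat.card (P G α β) := by
    rw [Nat.card_eq_fintype_card, Fintype.card_subtype]
  rw [hP, offcard] at h
  rw [← h]
  obtain ⟨γ⟩ : Nonempty Ω := ⟨α⟩
  haveI : MulAction.IsPretransitive G Ω := ⟨fun x y => by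
    by_cases hxy : x = y
    · exact ⟨1, by rw [one_smul, hxy]⟩
    · obtain ⟨g, hg, -⟩ := h2 x y y x hxy (Ne.symm hxy)
      exact ⟨g, hg⟩⟩
  haveI : Nonempty Ω := ⟨α⟩
  have hsq := sum_fx_sq (G := G) (Ω := Ω)
  have h1 := sum_fx (G := G) (Ω := Ω) inferInstance
  have h3 : Nat.card (Quotient (MulAction.orbitRel G (Ω × Ω))) = 2 := by
    rw [Nat.card_eq_two_iff]
    refine ⟨⟦(α, α)⟧, ⟦(α, β)⟧, ?_, ?_⟩
    · intro he
      obtain ⟨g, hg⟩ := Quotient.exact he
      simp only [Prod.smul_mk, Prod.mk.injEq] at hg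
      exact hab (smul_left_cancel g (hg.1.trans hg.2.symm))
    · refine Set.eq_univ_of_forall fun q => ?_
      induction q using Quotient.inductionOn with
      | _ p =>
        obtain ⟨u, v⟩ := p
        by_cases huv : u = v
        · subst huv
          obtain ⟨g, hg⟩ := MulAction.exists_smul_eq G α u
          left
          exact Quotient.sound ⟨g, by simp [hg]⟩
        · obtain ⟨g, hg, hg'⟩ := h2 α β u v hab huv
          right
          exact Quotient.sound ⟨g, by simp [hg, hg']⟩
  rw [h3] at hsq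
  have hpt : ∀ g : G, fx Ω g ^ 2 = (fx Ω g * fx Ω g - fx Ω g) + fx Ω g := by
    intro g
    rw [sq, Nat.sub_add_cancel (Nat.le_mul_self _)]
  rw [Finset.sum_congr rfl (fun g _ => hpt g), Finset.sum_add_distrib, h1] at hsq
  omega

include h2 hab in
/-- Cauchy-Schwarz criterion. -/
lemma enough_of_sum_le
    (hS : (2 * Nat.card (P G α β) - 1) * (∑ x : Ω, Nat.card (MulAction.stabilizer (P G α β) x)) ≤
      Fintype.card Ω * Nat.card (P G α β) ^ 2)
    (hH : P G α β ≠ ⊥) :
    Fintype.card G ≤ ∑ g : G, (fx Ω g - 1) * (Fintype.card Ω - fx Ω g) := by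
  classical
  set n := Fintype.card Ω with hn
  set H := P G α β with hHdef
  set Hs := Finset.univ.filter (· ∈ H) with hHs
  have hHcard : Hs.card = Nat.card H := by
    rw [Nat.card_eq_fintype_card, Fintype.card_subtype]
  let φ : G → ℝ := fun g => ((n : ℝ) - fx Ω g) / fx Ω g
  have hsp := sum_pairs (G := G) φ hab h2 (fun a g => by simp only [φ, fx_conj])
  have hT : ∀ g : G, (fx Ω g * fx Ω g - fx Ω g) • φ g =
      (((fx Ω g - 1) * (n - fx Ω g) : ℕ) : ℝ) := by
    intro g
    rw [nsmul_eq_mul, offcard]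
    by_cases h0 : fx Ω g = 0
    · simp [h0]
    · have h1 : 1 ≤ fx Ω g := by omega
      have hle : fx Ω g ≤ n := fx_le g
      simp only [φ]
      rw [Nat.cast_mul, Nat.cast_mul, Nat.cast_sub h1, Nat.cast_sub hle, Nat.cast_one]
      field_simp
  rw [Finset.sum_congr rfl (fun g _ => hT g), ← Nat.cast_sum, nsmul_eq_mul, offcard] at hsp
  suffices hkey : (Nat.card H : ℝ) ≤ ∑ h ∈ Hs, φ h by
    have hG := card_eq h2 hab
    rw [← hn, ← hHdef] at hG
    have : ((Fintype.card G : ℕ) : ℝ) ≤
        ((∑ g : G, (fx Ω g - 1) * (n - fx Ω g) : ℕ) : ℝ) := by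
      rw [hsp, hG, Nat.cast_mul]
      exact mul_le_mul_of_nonneg_left hkey (Nat.cast_nonneg _)
    exact_mod_cast this
  have hpos : ∀ h ∈ Hs, (0 : ℝ) < fx Ω h := by
    intro h hh
    simp only [Hs, Finset.mem_filter, Finset.mem_univ, true_and, H, mem_P] at hh
    exact Nat.cast_pos.2 (Finset.card_pos.2 ⟨α, by simp [hh.1]⟩)
  have h1mem : (1 : G) ∈ Hs := by simp [Hs, H.one_mem]
  have hne : (Hs.erase 1).Nonempty := by
    obtain ⟨k, hk, hk1⟩ := exists_ne_one hH
    exact ⟨k, by simp [Hs, hk, hk1]⟩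
  have hphi : ∀ h ∈ Hs, φ h = (n : ℝ) * (1 / fx Ω h) - 1 := by
    intro h hh
    have := hpos h hh
    simp only [φ]
    field_simp
  rw [Finset.sum_congr rfl hphi, Finset.sum_sub_distrib, ← Finset.mul_sum, Finset.sum_const,
    nsmul_eq_mul, mul_one, hHcard, ← Finset.add_sum_erase _ _ h1mem, fx_one, ← hn]
  have titu := Finset.sq_sum_div_le_sum_sq_div (Hs.erase 1) (fun _ => (1 : ℝ))
    (g := fun h => (fx Ω h : ℝ)) (fun h hh => hpos h (Finset.mem_of_mem_erase hh))
  have hm : ((Hs.erase 1).card : ℝ) = (Nat.card H : ℝ) - 1 := by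
    rw [Finset.card_erase_of_mem h1mem, hHcard, Nat.cast_sub Nat.card_pos, Nat.cast_one]
  have hsum : (∑ h ∈ Hs.erase 1, (fx Ω h : ℝ)) =
      ((∑ x : Ω, Nat.card (MulAction.stabilizer H x) : ℕ) : ℝ) - n := by
    rw [← two_mul_sum_fx H, ← hHs, ← Finset.add_sum_erase _ _ h1mem, fx_one, ← hn]
    push_cast
    ring
  simp only [Finset.sum_const, nsmul_eq_mul, mul_one, one_pow] at titu
  rw [hsum, hm] at titu
  set S : ℕ := ∑ x : Ω, Nat.card (MulAction.stabilizer H x)
  set X := ∑ h ∈ Hs.erase 1, (1 : ℝ) / fx Ω h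
  have hSpos : (0 : ℝ) < (S : ℝ) - n := by
    rw [← hsum]
    exact Finset.sum_pos (fun h hh => hpos h (Finset.mem_of_mem_erase hh)) hne
  have hn0 : (0 : ℝ) < n := Nat.cast_pos.2 (Fintype.card_pos_iff.2 ⟨α⟩)
  have hS' : (2 * (Nat.card H : ℝ) - 1) * S ≤ n * (Nat.card H : ℝ) ^ 2 := by
    have := (Nat.cast_le (α := ℝ)).2 hS
    have hc : 1 ≤ 2 * Nat.card H := by
      have := Nat.card_pos (α := H)
      omega
    push_cast [Nat.cast_sub hc] at this
    exact this
  have key : (2 * (Nat.card H : ℝ) - 1) ≤ n * X := by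
    have h3 : n * (((Nat.card H : ℝ) - 1) ^ 2 / ((S : ℝ) - n)) ≤ n * X :=
      mul_le_mul_of_nonneg_left titu hn0.le
    refine le_trans ?_ h3
    rw [← mul_div_assoc, le_div_iff₀ hSpos]
    nlinarith
  have : (n : ℝ) * (1 / n + X) = 1 + n * X := by field_simp
  linarith

include h2 hab in
/-- All orbits of a pair stabilizer of size at most `2` forces order `2`. -/
lemma card_two_of_orbits (hsmall : ∀ x : Ω, (orb (P G α β) x).card ≤ 2) :
    Nat.card (P G α β) ≤ 2 := by
  classical
  have hQ : ∀ x y : Ω, x ≠ y → ∀ z : Ω, ∀ k ∈ P G x y, ∀ k' ∈ P G x y,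
      k • z ≠ z → k' • z ≠ z → k • z = k' • z := by
    intro x y hxy z k hk k' hk' h1 h1'
    obtain ⟨a, -, -, hc⟩ := P_conj h2 hab hxy
    by_contra hne
    have key : ∀ q ∈ P G x y, a⁻¹ • q • z ∈ orb (P G α β) (a⁻¹ • z) := fun q hq =>
      (mem_orb _).2 ⟨a⁻¹ * q * a, (hc q).1 hq, by rw [mul_smul, mul_smul, smul_inv_smul]⟩
    have := Finset.card_le_card (s := {a⁻¹ • z, a⁻¹ • k • z, a⁻¹ • k' • z})
      (t := orb (P G α β) (a⁻¹ • z)) (by
        intro u hu
        simp only [Finset.mem_insert, Finset.mem_singleton] at hu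
        rcases hu with rfl | rfl | rfl
        · exact self_mem_orb _ _
        · exact key k hk
        · exact key k' hk')
    rw [Finset.card_eq_three.2 ⟨_, _, _, fun e => h1 (MulAction.injective a⁻¹ e).symm,
      fun e => h1' (MulAction.injective a⁻¹ e).symm,
      fun e => hne (MulAction.injective a⁻¹ e), rfl⟩] at this
    have := hsmall (a⁻¹ • z)
    omega
  have hinv : ∀ x y : Ω, x ≠ y → ∀ k ∈ P G x y, k * k = 1 := by
    intro x y hxy k hk
    refine FaithfulSMul.eq_of_smul_eq_smul (fun z : Ω => ?_)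
    rw [one_smul, mul_smul]
    by_cases h1 : k • z = z
    · rw [h1, h1]
    · by_contra h1'
      have e := hQ x y hxy z k hk (k * k) (mul_mem hk hk) h1 (by rwa [mul_smul])
      rw [mul_smul] at e
      exact h1 (MulAction.injective k e).symm
  have hcomm : ∀ x y : Ω, x ≠ y → ∀ k ∈ P G x y, ∀ k' ∈ P G x y, Commute k k' := by
    intro x y hxy k hk k' hk'
    have e := hinv x y hxy _ (mul_mem hk hk')
    have e1 := eq_inv_of_mul_eq_one_left (hinv x y hxy k hk)
    have e2 := eq_inv_of_mul_eq_one_left (hinv x y hxy k' hk')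
    have e3 := eq_inv_of_mul_eq_one_left e
    change k * k' = k' * k
    rw [e3, mul_inv_rev, ← e1, ← e2]
  by_contra hbig
  push Not at hbig
  -- the moved point
  obtain ⟨h, hh, hh1⟩ : ∃ h ∈ P G α β, h ≠ 1 := by
    refine exists_ne_one fun e => ?_
    rw [e] at hbig; simp at hbig
  obtain ⟨d₀, hd₀⟩ : ∃ d : Ω, h • d ≠ d := by
    by_contra hc
    push Not at hc
    exact hh1 (FaithfulSMul.eq_of_smul_eq_smul (fun x : Ω => by simpa using hc x))
  -- a nontrivial element of `P G α β` fixing `d₀`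
  obtain ⟨d, hd, hd1, hdd⟩ : ∃ d ∈ P G α β, d ≠ 1 ∧ d • d₀ = d₀ := by
    obtain ⟨k, hk, hk1, hkh⟩ : ∃ k ∈ P G α β, k ≠ 1 ∧ k ≠ h := by
      by_contra hc
      push Not at hc
      have : Nat.card (P G α β) ≤ 2 := by
        rw [Nat.card_eq_fintype_card, Fintype.card_subtype]
        refine (Finset.card_le_card (t := ({1, h} : Finset G)) ?_).trans Finset.card_le_two
        intro k hk
        simp only [Finset.mem_filter, Finset.mem_univ, true_and] at hk
        by_cases hk1 : k = 1
        · simp [hk1]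
        · simp [hc k hk hk1]
      omega
    by_cases hkd : k • d₀ = d₀
    · exact ⟨k, hk, hk1, hkd⟩
    · refine ⟨h * k, mul_mem hh hk, ?_, ?_⟩
      · intro e
        exact hkh (mul_left_cancel (e.trans (hinv α β hab h hh).symm))
      · rw [mul_smul, hQ α β hab d₀ k hk h hh hkd hd₀, ← mul_smul, hinv α β hab h hh, one_smul]
  have key : ∀ u v : Ω, u ≠ v → P G u v = P G α β → ∀ a ∈ P G u d₀, a • (h • d₀) = h • d₀ := by
    intro u v huv hP a ha
    have hhu : h ∈ P G u v := hP ▸ hh
    have hdu : d ∈ P G u v := hP ▸ hd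
    have hud : u ≠ d₀ := fun e => hd₀ (by rw [← e]; exact (mem_P.1 hhu).1)
    by_contra hne
    have hncomm : ¬ Commute h a := by
      intro e
      apply hne
      rw [← mul_smul, ← e.eq, mul_smul, (mem_P.1 ha).2]
    have hdA : d ∈ P G u d₀ := mem_P.2 ⟨(mem_P.1 hdu).1, hdd⟩
    have haH : a • v ≠ v := fun e =>
      hncomm (hcomm u v huv h hhu a (mem_P.2 ⟨(mem_P.1 ha).1, e⟩))
    obtain ⟨γ, hγ⟩ : ∃ γ : Ω, d • γ ≠ γ := by
      by_contra hc
      push Not at hc
      exact hd1 (FaithfulSMul.eq_of_smul_eq_smul (fun x : Ω => by simpa using hc x))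
    have huγ : u ≠ γ := fun e => hγ (by rw [← e]; exact (mem_P.1 hdu).1)
    have dh : Commute d h := hcomm u v huv d hdu h hhu
    have da : Commute d a := hcomm u d₀ hud d hdA a ha
    have mk : ∀ x y : Ω, x ≠ y → x = u → ∀ k ∈ P G x y, d ∈ P G x y →
        ∃ k' ∈ P G u γ, k' = k ∨ k' = d * k := by
      intro x y hxy hxu k hk hdk
      subst hxu
      by_cases hkγ : k • γ = γ
      · exact ⟨k, mem_P.2 ⟨(mem_P.1 hk).1, hkγ⟩, Or.inl rfl⟩
      · refine ⟨d * k, mem_P.2 ⟨(mem_P.1 (mul_mem hdk hk)).1, ?_⟩, Or.inr rfl⟩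
        rw [mul_smul, hQ x y hxy γ k hk d hdk hkγ hγ, ← mul_smul, hinv x y hxy d hdk, one_smul]
    obtain ⟨h', hh', eh⟩ := mk u v huv rfl h hhu hdu
    obtain ⟨a', ha', ea⟩ := mk u d₀ hud rfl a ha hdA
    have c := hcomm u γ huγ h' hh' a' ha'
    have hdd1 : d * (d * h) = h := by rw [← mul_assoc, hinv α β hab d hd, one_mul]
    have hdd2 : d * (d * a) = a := by rw [← mul_assoc, hinv α β hab d hd, one_mul]
    have c1 : Commute h a' := by
      rcases eh with rfl | rfl
      · exact c
      · have dd' : Commute d a' := by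
          rcases ea with rfl | rfl
          · exact da
          · exact (Commute.refl d).mul_right da
        exact hdd1 ▸ dd'.mul_left c
    apply hncomm
    rcases ea with rfl | rfl
    · exact c1
    · exact hdd2 ▸ (dh.symm.mul_right c1)
  have hαd : α ≠ d₀ := fun e => hd₀ (by rw [← e]; exact (mem_P.1 hh).1)
  have hβd : β ≠ d₀ := fun e => hd₀ (by rw [← e]; exact (mem_P.1 hh).2)
  have hswap : P G β α = P G α β := by
    ext k; rw [mem_P, mem_P, and_comm]
  have e1 : P G d₀ (h • d₀) = P G α d₀ := line_eq h2 hαd (Ne.symm hd₀)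
    (mem_fixSet.2 fun k hk => (mem_P.1 hk).2) (mem_fixSet.2 (key α β hab rfl))
  have e2 : P G d₀ (h • d₀) = P G β d₀ := line_eq h2 hβd (Ne.symm hd₀)
    (mem_fixSet.2 fun k hk => (mem_P.1 hk).2) (mem_fixSet.2 (key β α hab.symm hswap))
  have e3 : P G α d₀ = P G α β := by
    refine Subgroup.eq_of_le_of_card_ge (fun k hk => ?_) (card_P h2 hαd hab).le
    refine mem_P.2 ⟨(mem_P.1 hk).1, ?_⟩
    rw [← e1, e2] at hk
    exact (mem_P.1 hk).1
  rw [← e3] at hh
  exact hd₀ (mem_P.1 hh).2

include h2 hab in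
omit [FaithfulSMul G Ω] in
/-- Exactly three fixed points and `H` of order two forces `n ≥ 9`. -/
lemma nine_le (hf : (fixSet Ω (P G α β)).card = 3) (hH : Nat.card (P G α β) = 2)
    [FaithfulSMul G Ω] : 9 ≤ Fintype.card Ω := by
  classical
  set n := Fintype.card Ω with hn
  obtain ⟨h, hh, hh1⟩ : ∃ h ∈ P G α β, h ≠ 1 := by
    refine exists_ne_one fun e => ?_
    rw [e] at hH; simp at hH
  obtain ⟨d₀, hd₀⟩ : ∃ d : Ω, h • d ≠ d := by
    by_contra hc
    push Not at hc
    exact hh1 (FaithfulSMul.eq_of_smul_eq_smul (fun x : Ω => by simpa using hc x))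
  have hHel : ∀ k ∈ P G α β, k = 1 ∨ k = h := by
    intro k hk
    by_contra hc
    push Not at hc
    have : 3 ≤ Nat.card (P G α β) := by
      rw [Nat.card_eq_fintype_card, Fintype.card_subtype]
      refine le_trans ?_ (Finset.card_le_card (s := {1, h, k}) ?_)
      · simp [Ne.symm hh1, Ne.symm hc.1, Ne.symm hc.2]
      · intro x hx
        simp only [Finset.mem_insert, Finset.mem_singleton] at hx
        simp only [Finset.mem_filter, Finset.mem_univ, true_and]
        rcases hx with rfl | rfl | rfl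
        · exact one_mem _
        · assumption
        · assumption
    omega
  have hfx : fx Ω h = 3 := by
    rw [← hf, fx]
    congr 1
    ext z
    simp only [Finset.mem_filter, Finset.mem_univ, true_and, mem_fixSet]
    refine ⟨fun e k hk => ?_, fun e => e h hh⟩
    rcases hHel k hk with rfl | rfl
    · exact one_smul _ _
    · exact e
  let S := Finset.univ.filter (fun g : G => g ≠ 1 ∧ fx Ω g = 3)
  have hG := card_eq h2 hab
  rw [hH, ← hn] at hG
  have h6 : S.card * 6 ≤ n * (n - 1) := by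
    have hpt : ∀ g : G, fx Ω g * fx Ω g - fx Ω g ≥
        (if g ∈ S then 6 else 0) + (if g = 1 then n * (n - 1) else 0) := by
      intro g
      by_cases h1 : g = 1
      · subst h1
        simp [S, fx_one, ← hn, offcard]
      · by_cases hg : fx Ω g = 3
        · simp [S, h1, hg]
        · simp [S, h1, hg]
    have hsum := Finset.sum_le_sum (fun g (_ : g ∈ (Finset.univ : Finset G)) => hpt g)
    rw [Finset.sum_add_distrib, Finset.sum_ite_mem, Finset.univ_inter, Finset.sum_const,
      smul_eq_mul, Finset.sum_ite_eq' _ _ (fun _ => n * (n - 1)), if_pos (Finset.mem_univ _)] at hsum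
    have hsp := sum_pairs (G := G) (fun _ => (1 : ℕ)) hab h2 (fun _ _ => rfl)
    simp only [smul_eq_mul, mul_one, Finset.sum_const] at hsp
    have hP : (Finset.univ.filter (· ∈ P G α β)).card = Nat.card (P G α β) := by
      rw [Nat.card_eq_fintype_card, Fintype.card_subtype]
    rw [hP, hH, offcard, ← hn] at hsp
    rw [hsp] at hsum
    omega
  have hsw : n * (n - 1) ≤ S.card * (n - 3) := by
    have hsub : (Finset.univ : Finset Ω).offDiag ⊆ S.biUnion (fun g =>
        (Finset.univ.filter (fun x : Ω => g • x ≠ x)).image (fun x => (x, g • x))) := by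
      intro p hp
      simp only [Finset.mem_offDiag, Finset.mem_univ, true_and] at hp
      obtain ⟨a, ha, ha'⟩ := h2 d₀ (h • d₀) p.1 p.2 (Ne.symm hd₀) hp
      have e : (a * h * a⁻¹) • p.1 = p.2 := by
        rw [mul_smul, mul_smul, ← ha, inv_smul_smul, ha']
      simp only [Finset.mem_biUnion, Finset.mem_image, Finset.mem_filter, Finset.mem_univ, true_and]
      refine ⟨a * h * a⁻¹, ?_, p.1, by rw [e]; exact Ne.symm hp, by rw [e]⟩
      simp only [S, Finset.mem_filter, Finset.mem_univ, true_and, fx_conj, hfx, and_true, ne_eq]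
      exact fun e' => hh1 (conj_eq_one_iff.1 e')
    have := Finset.card_le_card hsub
    rw [Finset.offDiag_card, Finset.card_univ, offcard] at this
    refine this.trans (Finset.card_biUnion_le.trans ?_)
    refine (Finset.sum_le_sum (g := fun _ => n - 3) fun g hg => ?_).trans (by simp)
    refine Finset.card_image_le.trans ?_
    simp only [S, Finset.mem_filter, Finset.mem_univ, true_and] at hg
    rw [Finset.filter_not, Finset.card_univ_diff, ← hn]
    simp only [fx] at hg
    omega
  have hn2 : 2 ≤ n := Fintype.one_lt_card_iff.2 ⟨α, β, hab⟩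
  by_contra hlt
  have hSpos : 0 < S.card := by
    have : 0 < n * (n - 1) := Nat.mul_pos (by omega) (by omega)
    rcases Nat.eq_zero_or_pos S.card with h0 | h0
    · rw [h0] at hsw; omega
    · exact h0
  have := h6.trans hsw
  have := Nat.le_of_mul_le_mul_left this hSpos
  omega

set_option maxHeartbeats 1000000 in
include h2 hab in
/-- The two-transitive, not sharply two-transitive case. -/
lemma main_two (hn : 7 ≤ Fintype.card Ω) (hH : P G α β ≠ ⊥) :
    Fintype.card G ≤ ∑ g : G, (fx Ω g - 1) * (Fintype.card Ω - fx Ω g) := by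
  classical
  set n := Fintype.card Ω with hndef
  set H := P G α β with hHdef
  set f := (fixSet Ω H).card with hfdef
  have hH2 : 2 ≤ Nat.card H := by
    have := Nat.card_pos (α := H)
    have : Nat.card H ≠ 1 := fun e => hH (Subgroup.card_eq_one.1 e)
    omega
  have hf2 : 2 ≤ f := by
    refine Finset.one_lt_card.2 ⟨α, ?_, β, ?_, hab⟩
    · exact mem_fixSet.2 fun k hk => (mem_P.1 hk).1
    · exact mem_fixSet.2 fun k hk => (mem_P.1 hk).2
  have hG := card_eq h2 hab
  have hbound : ∀ g : G, g ≠ 1 → fx Ω g * (f - 1) ≤ n - 1 := fun g hg => fx_bound h2 hab g hg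
  have hone : ∀ g : G, g = 1 → fx Ω g = n := fun g hg => by rw [hg, fx_one]
  have hsp := sum_pairs (G := G) (fun _ => (1 : ℕ)) hab h2 (fun _ _ => rfl)
  simp only [smul_eq_mul, mul_one, Finset.sum_const] at hsp
  have hP : (Finset.univ.filter (· ∈ H)).card = Nat.card H := by
    rw [Nat.card_eq_fintype_card, Fintype.card_subtype]
  rw [hP, offcard, ← hndef, ← hG, ← Finset.add_sum_erase _ _ (Finset.mem_univ (1 : G)), fx_one,
    ← hndef, offcard] at hsp
  set W := ∑ g ∈ Finset.univ.erase (1 : G), (fx Ω g * fx Ω g - fx Ω g) with hW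
  have hT : ∑ g ∈ Finset.univ.erase (1 : G), (fx Ω g - 1) * (n - fx Ω g)
      = ∑ g : G, (fx Ω g - 1) * (n - fx Ω g) :=
    Finset.sum_erase _ (by simp [fx_one, ← hndef])
  have hGge : 2 * (n * (n - 1)) ≤ Fintype.card G := by
    rw [hG, Nat.mul_comm 2]
    exact Nat.mul_le_mul_left _ hH2
  by_cases hf4 : 4 ≤ f
  · rw [← hT]
    have : ∀ g ∈ Finset.univ.erase (1 : G),
        2 * (fx Ω g * fx Ω g - fx Ω g) ≤ (fx Ω g - 1) * (n - fx Ω g) := by
      intro g hg
      have hb := hbound g (Finset.ne_of_mem_erase hg)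
      rw [offcard, ← mul_assoc, mul_comm _ (fx Ω g - 1)]
      refine Nat.mul_le_mul_left _ ?_
      have : fx Ω g * 3 ≤ fx Ω g * (f - 1) := Nat.mul_le_mul_left _ (by omega)
      omega
    refine le_trans ?_ (Finset.sum_le_sum this)
    rw [← Finset.mul_sum, ← hW]
    omega
  by_cases hbig : f = 3 ∧ n + 1 ≤ 2 * Nat.card H
  · obtain ⟨hf3, hHbig⟩ := hbig
    rw [← hT]
    have hb2 : ∀ g ∈ Finset.univ.erase (1 : G), 2 * fx Ω g ≤ n - 1 := by
      intro g hg
      have hb := hbound g (Finset.ne_of_mem_erase hg)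
      rw [hf3] at hb
      omega
    have h1 : ∀ g ∈ Finset.univ.erase (1 : G),
        (fx Ω g * fx Ω g - fx Ω g) + (fx Ω g - 1) ≤ (fx Ω g - 1) * (n - fx Ω g) := by
      intro g hg
      have := hb2 g hg
      rw [offcard, mul_comm (fx Ω g), ← Nat.mul_succ]
      exact Nat.mul_le_mul_left _ (by omega)
    have h3 : 2 * W ≤ (n - 1) * ∑ g ∈ Finset.univ.erase (1 : G), (fx Ω g - 1) := by
      rw [hW, Finset.mul_sum, Finset.mul_sum]
      refine Finset.sum_le_sum fun g hg => ?_
      rw [offcard, ← mul_assoc]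
      exact Nat.mul_le_mul_right _ (hb2 g hg)
    refine le_trans ?_ (Finset.sum_le_sum h1)
    rw [Finset.sum_add_distrib, ← hW]
    have h4 : n * (n - 1) ≤ ∑ g ∈ Finset.univ.erase (1 : G), (fx Ω g - 1) := by
      refine Nat.le_of_mul_le_mul_left (le_trans ?_ h3) (show 0 < n - 1 by omega)
      have h5 : W = n * (n - 1) * (Nat.card H - 1) := by
        rw [Nat.mul_sub, mul_one, ← hG]; omega
      rw [h5, mul_comm (n - 1) (n * (n - 1)), mul_comm 2, mul_assoc (n * (n - 1))]
      exact Nat.mul_le_mul_left _ (by omega)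
    omega
  refine enough_of_sum_le h2 hab ?_ hH
  set S := ∑ x : Ω, Nat.card (MulAction.stabilizer H x)
  change (2 * Nat.card H - 1) * S ≤ n * Nat.card H ^ 2
  have hgen : ∀ e : ℕ, 2 * S ≤ Nat.card H * (n + e) → (2 * Nat.card H - 1) * e ≤ n →
      (2 * Nat.card H - 1) * S ≤ n * Nat.card H ^ 2 := by
    intro e h1 h1'
    refine Nat.le_of_mul_le_mul_left ?_ (show 0 < 2 by norm_num)
    obtain ⟨m, hm⟩ : ∃ m, 2 * Nat.card H = m + 1 := ⟨2 * Nat.card H - 1, by omega⟩
    rw [hm, Nat.add_sub_cancel] at h1' ⊢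
    have := Nat.mul_le_mul_left m h1
    have h3 := Nat.mul_le_mul_left (Nat.card H) h1'
    have h4 : n * Nat.card H * (m + 1) = n * Nat.card H * (2 * Nat.card H) := by rw [hm]
    nlinarith
  by_cases hsmall : ∀ x : Ω, (orb H x).card ≤ 2
  · have h2' := card_two_of_orbits h2 hab hsmall
    have hHeq : Nat.card H = 2 := le_antisymm h2' hH2
    have hd := deficit H (∅ : Finset Ω) 0 (by simp) (by simp)
    simp only [Finset.card_empty, zero_mul, add_zero, mul_zero, ← hfdef, ← hndef] at hd
    refine hgen f hd ?_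
    rw [hHeq]
    rcases (by omega : f = 2 ∨ f = 3) with h' | h'
    · omega
    · have := nine_le h2 hab (hfdef.symm.trans h') hHeq
      omega
  push Not at hsmall
  obtain ⟨x, hx⟩ := hsmall
  have hxf : ∀ y ∈ orb H x, y ∉ fixSet Ω H := by
    intro y hy hyf
    rw [← orb_eq_of_mem H hy] at hx
    have : orb H y ⊆ {y} := by
      intro z hz
      obtain ⟨k, hk, rfl⟩ := (mem_orb H).1 hz
      rw [Finset.mem_singleton]
      exact mem_fixSet.1 hyf k hk
    have := Finset.card_le_card this
    simp at this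
    omega
  have hfin : 2 * S + 2 * Nat.card H ≤ Nat.card H * (n + f) →
      (2 * Nat.card H - 1) * S ≤ n * Nat.card H ^ 2 := by
    intro h1
    refine hgen (f - 2) ?_ ?_
    · have : Nat.card H * (n + f) = Nat.card H * (n + (f - 2)) + 2 * Nat.card H := by
        rw [mul_comm 2, ← mul_add]; congr 1; omega
      omega
    · rcases (by omega : f = 2 ∨ f = 3) with h' | h'
      · simp [h']
      · have : ¬ n + 1 ≤ 2 * Nat.card H := fun e => hbig ⟨h', e⟩
        rw [h']
        omega
  by_cases hx4 : 4 ≤ (orb H x).card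
  · apply hfin
    have hd := deficit H (orb H x) 1 (by rw [one_mul]; exact sum_orb H x) hxf
    rw [← hfdef, ← hndef] at hd
    change 2 * S + _ ≤ _ at hd
    nlinarith [Nat.mul_le_mul_right (Nat.card H) hx4]
  have hx3 : (orb H x).card = 3 := by omega
  by_cases hy : ∃ y : Ω, y ∉ orb H x ∧ 3 ≤ (orb H y).card
  · obtain ⟨y, hy, hy3⟩ := hy
    apply hfin
    have hdis : Disjoint (orb H x) (orb H y) := by
      rw [Finset.disjoint_left]
      intro z hz hz'
      apply hy
      rw [← orb_eq_of_mem H hz, orb_eq_of_mem H hz']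
      exact self_mem_orb H y
    have hyf : ∀ z ∈ orb H y, z ∉ fixSet Ω H := by
      intro z hz hzf
      rw [← orb_eq_of_mem H hz] at hy3
      have : orb H z ⊆ {z} := by
        intro w hw
        obtain ⟨k, hk, rfl⟩ := (mem_orb H).1 hw
        rw [Finset.mem_singleton]
        exact mem_fixSet.1 hzf k hk
      have := Finset.card_le_card this
      simp at this
      omega
    have hd := deficit H (orb H x ∪ orb H y) 2
      (by rw [Finset.sum_union hdis, sum_orb, sum_orb]; ring)
      (by intro z hz; rcases Finset.mem_union.1 hz with h' | h'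
          · exact hxf z h'
          · exact hyf z h')
    rw [← hfdef, ← hndef, Finset.card_union_of_disjoint hdis, hx3] at hd
    change 2 * S + _ ≤ _ at hd
    nlinarith [Nat.mul_le_mul_right (Nat.card H) hy3]
  push Not at hy
  exfalso
  rcases (by omega : f = 2 ∨ f = 3) with hf' | hf'
  · -- a three-cycle
    have h3 : 3 ∣ Nat.card H := ⟨_, (orb_mul_stab H x).symm.trans (by rw [hx3])⟩
    haveI : Fact (Nat.Prime 3) := ⟨Nat.prime_three⟩
    obtain ⟨u, hu⟩ := exists_prime_orderOf_dvd_card' 3 h3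
    have huG : orderOf (u : G) = 3 := by rwa [← Subgroup.orderOf_coe] at hu
    have hu3 : (u : G) * u * u = 1 := by
      have h' := pow_orderOf_eq_one (u : G)
      rw [huG, pow_succ, pow_two] at h'
      exact h'
    have hsupp : ∀ z : Ω, (u : G) • z ≠ z → z ∈ orb H x := by
      intro z hz
      by_contra hzx
      have h3' := hy z hzx
      have hz3 : (u : G) • (u : G) • (u : G) • z = z := by
        rw [← mul_smul, ← mul_smul, hu3, one_smul]
      have : ({z, (u : G) • z, (u : G) • (u : G) • z} : Finset Ω) ⊆ orb H z := by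
        intro w hw
        simp only [Finset.mem_insert, Finset.mem_singleton] at hw
        rcases hw with h' | h' | h' <;> rw [h']
        · exact self_mem_orb H z
        · exact (mem_orb H).2 ⟨u, u.2, rfl⟩
        · exact (mem_orb H).2 ⟨u * u, mul_mem u.2 u.2, mul_smul _ _ _⟩
      have hc := Finset.card_le_card this
      rw [Finset.card_eq_three.2 ⟨_, _, _, Ne.symm hz, fun e => hz (by
          conv_lhs => rw [e]
          rw [hz3]), fun e => hz (MulAction.injective (u : G) e).symm, rfl⟩] at hc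
      omega
    let σ : Equiv.Perm Ω := MulAction.toPermHom G Ω (u : G)
    have hσ3 : orderOf σ = 3 := by
      rw [orderOf_injective _ MulAction.toPerm_injective]
      exact huG
    have hσc : σ.IsThreeCycle := by
      rw [← card_support_eq_three_iff]
      have h1 : σ.support ⊆ orb H x := fun z hz => hsupp z (by simpa [σ] using hz)
      have h1' := Finset.card_le_card h1
      have hne : σ ≠ 1 := fun e => by rw [e] at hσ3; simp at hσ3
      have h2' := Equiv.Perm.two_le_card_support_of_ne_one hne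
      rcases (by omega : σ.support.card = 2 ∨ σ.support.card = 3) with h' | h'
      · have := (Equiv.Perm.card_support_eq_two.1 h').orderOf
        omega
      · exact h'
    let R : Subgroup (Equiv.Perm Ω) := (MulAction.toPermHom G Ω).range
    haveI : MulAction.IsMultiplyPretransitive R Ω 2 := by
      rw [MulAction.is_two_pretransitive_iff]
      intro a b c d hab' hcd
      obtain ⟨g, hg, hg'⟩ := h2 a b c d hab' hcd
      exact ⟨⟨MulAction.toPermHom G Ω g, g, rfl⟩, hg, hg'⟩
    have hR : MulAction.IsPreprimitive R Ω :=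
      MulAction.isPreprimitive_of_is_two_pretransitive inferInstance
    have hA := Equiv.Perm.alternatingGroup_le_of_isPreprimitive_of_isThreeCycle_mem hR
      (g := σ) hσc ⟨u, rfl⟩
    -- the orbit of `x` is everything off `α, β`
    have hxα : x ≠ α := fun e => hxf x (self_mem_orb H x)
      (e ▸ mem_fixSet.2 fun k hk => (mem_P.1 hk).1)
    have hxβ : x ≠ β := fun e => hxf x (self_mem_orb H x)
      (e ▸ mem_fixSet.2 fun k hk => (mem_P.1 hk).2)
    have hsub : ((Finset.univ : Finset Ω).erase α).erase β ⊆ orb H x := by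
      intro y hy'
      simp only [Finset.mem_erase, Finset.mem_univ, and_true] at hy'
      by_cases hxy : y = x
      · rw [hxy]; exact self_mem_orb H x
      obtain ⟨c, hc⟩ : ∃ c : Ω, c ∉ ({α, β, x, y} : Finset Ω) := by
        by_contra hc
        push Not at hc
        have : n ≤ 4 := by
          rw [hndef, ← Finset.card_univ]
          exact (Finset.card_le_card fun z _ => hc z).trans Finset.card_le_four
        omega
      simp only [Finset.mem_insert, Finset.mem_singleton, not_or] at hc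
      have hcyc : (Equiv.swap x c * Equiv.swap x y).IsThreeCycle :=
        Equiv.Perm.isThreeCycle_swap_mul_swap_same (Ne.symm hc.2.2.1) (Ne.symm hxy) hc.2.2.2
      obtain ⟨g, hg⟩ := hA hcyc.mem_alternatingGroup
      have hga : ∀ z, g • z = (Equiv.swap x c * Equiv.swap x y) z := fun z => by
        rw [← hg]; rfl
      refine (mem_orb H).2 ⟨g, mem_P.2 ⟨?_, ?_⟩, ?_⟩
      · rw [hga, Equiv.Perm.mul_apply, Equiv.swap_apply_of_ne_of_ne (Ne.symm hxα) (Ne.symm hy'.2),
          Equiv.swap_apply_of_ne_of_ne (Ne.symm hxα) (Ne.symm hc.1)]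
      · rw [hga, Equiv.Perm.mul_apply, Equiv.swap_apply_of_ne_of_ne (Ne.symm hxβ) (Ne.symm hy'.1),
          Equiv.swap_apply_of_ne_of_ne (Ne.symm hxβ) (Ne.symm hc.2.1)]
      · rw [hga, Equiv.Perm.mul_apply, Equiv.swap_apply_left,
          Equiv.swap_apply_of_ne_of_ne hxy (Ne.symm hc.2.2.2)]
    have := Finset.card_le_card hsub
    rw [Finset.card_erase_of_mem (by simp [Ne.symm hab]), Finset.card_erase_of_mem
      (Finset.mem_univ α), Finset.card_univ] at this
    omega
  · -- lines through `α`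
    have hαfix : α ∈ fixSet Ω H := mem_fixSet.2 fun k hk => (mem_P.1 hk).1
    have third : ∀ d ∈ orb H x, ∃ e ∈ orb H x, e ≠ d ∧ e ∈ fixSet Ω (P G α d) := by
      intro d hd
      have hαd : α ≠ d := fun e => hxf d hd (e ▸ hαfix)
      have hc : (fixSet Ω (P G α d)).card = 3 := by rw [card_fixSet h2 hab hαd]; exact hf'
      obtain ⟨e, he, hne⟩ := Finset.exists_mem_notMem_of_card_lt_card
        (s := ({α, d} : Finset Ω)) (t := fixSet Ω (P G α d))
        (by rw [hc]; exact lt_of_le_of_lt Finset.card_le_two (by norm_num))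
      simp only [Finset.mem_insert, Finset.mem_singleton, not_or] at hne
      have heq : P G α e = P G α d := line_eq h2 hαd (Ne.symm hne.1)
        (mem_fixSet.2 fun k hk => (mem_P.1 hk).1) he
      refine ⟨e, ?_, hne.2, he⟩
      by_contra heo
      have hle : Nat.card (MulAction.stabilizer H e) ≤ Nat.card (MulAction.stabilizer H d) := by
        refine Nat.card_le_card_of_injective (fun k => ⟨k.1, ?_⟩)
          (fun a b hab' => Subtype.ext (congrArg Subtype.val hab' :))
        have hk : (k.1 : G) ∈ P G α e := mem_P.2 ⟨(mem_P.1 k.1.2).1, k.2⟩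
        rw [heq] at hk
        exact (mem_P.1 hk).2
      have h1 := orb_mul_stab H e
      have h1' := orb_mul_stab H d
      rw [orb_eq_of_mem H hd, hx3] at h1'
      have := hy e heo
      have := Nat.card_pos (α := MulAction.stabilizer H e)
      nlinarith
    obtain ⟨b, hb, hbne, hbfix⟩ := third x (self_mem_orb H x)
    have hαx : α ≠ x := fun e => hxf x (self_mem_orb H x) (e ▸ hαfix)
    have hc3 : ({α, x, b} : Finset Ω) = fixSet Ω (P G α x) := by
      refine Finset.eq_of_subset_of_card_le ?_ ?_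
      · intro z hz
        simp only [Finset.mem_insert, Finset.mem_singleton] at hz
        rcases hz with rfl | rfl | rfl
        · exact mem_fixSet.2 fun k hk => (mem_P.1 hk).1
        · exact mem_fixSet.2 fun k hk => (mem_P.1 hk).2
        · exact hbfix
      · rw [card_fixSet h2 hab hαx, ← hfdef, hf']
        have hαb : α ≠ b := fun e => hxf b hb (e ▸ hαfix)
        simp [hαx, hαb, Ne.symm hbne]
    obtain ⟨c, hc, hcne⟩ := Finset.exists_mem_notMem_of_card_lt_card
      (s := ({x, b} : Finset Ω)) (t := orb H x)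
      (by rw [hx3]; exact lt_of_le_of_lt Finset.card_le_two (by norm_num))
    simp only [Finset.mem_insert, Finset.mem_singleton, not_or] at hcne
    obtain ⟨e, heo, hec, hefix⟩ := third c hc
    have hαc : α ≠ c := fun e' => hxf c hc (e' ▸ hαfix)
    have hαe : α ≠ e := fun e' => hxf e heo (e' ▸ hαfix)
    have hexb : e = x ∨ e = b := by
      by_contra h'
      push Not at h'
      have : ({x, b, c, e} : Finset Ω).card ≤ (orb H x).card := Finset.card_le_card (by
        intro z hz
        simp only [Finset.mem_insert, Finset.mem_singleton] at hz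
        rcases hz with rfl | rfl | rfl | rfl
        exacts [self_mem_orb H _, hb, hc, heo])
      simp [Ne.symm hbne, Ne.symm hcne.1, Ne.symm hcne.2, Ne.symm h'.1, Ne.symm h'.2, Ne.symm hec,
        hx3] at this
    have heq : P G α e = P G α c := line_eq h2 hαc hαe
      (mem_fixSet.2 fun k hk => (mem_P.1 hk).1) hefix
    have hxeq : P G α e = P G α x := by
      refine line_eq h2 hαx hαe (mem_fixSet.2 fun k hk => (mem_P.1 hk).1) ?_
      rw [← hc3]
      rcases hexb with rfl | rfl <;> simp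
    have : c ∈ fixSet Ω (P G α x) := by
      rw [← hxeq, heq]
      exact mem_fixSet.2 fun k hk => (mem_P.1 hk).2
    rw [← hc3] at this
    simp [Ne.symm hαc, hcne.1, hcne.2] at this

end Main

/-- Derangements: proportion at least `2/n` unless sharply 2-transitive. -/
theorem two_over_n [Finite G] [FaithfulSMul G Ω] (htr : MulAction.IsPretransitive G Ω)
    (hn : 7 ≤ Fintype.card Ω) :
    ((∃ g : G, g ≠ 1 ∧ ∃ ω : Ω, g • ω = ω) ∧
      (∀ g : G, g ≠ 1 → Nat.card (MulAction.fixedBy Ω g) ≤ 1) ∧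
      Nat.card G = Fintype.card Ω * (Fintype.card Ω - 1) ∧
      Fintype.card Ω * Nat.card {g : G // ∀ ω : Ω, g • ω ≠ ω} = Nat.card G) ∨
    2 * Nat.card G ≤ Fintype.card Ω * Nat.card {g : G // ∀ ω : Ω, g • ω ≠ ω} := by
  classical
  haveI := Fintype.ofFinite G
  rw [Nat.card_eq_fintype_card (α := G)]
  haveI : Nonempty Ω := Fintype.card_pos_iff.1 (by omega)
  have hcc := cameron_cohen (G := G) (Ω := Ω) (sum_fx htr)
  by_cases h2 : ∀ x y z w : Ω, x ≠ y → z ≠ w → ∃ g : G, g • x = z ∧ g • y = w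
  swap
  · have := rank_ge_three (G := G) (by omega) h2
    right
    omega
  obtain ⟨α, β, hab⟩ := Fintype.one_lt_card_iff.1 (show 1 < Fintype.card Ω by omega)
  have hG := card_eq h2 hab
  have hsq : ∑ g : G, fx Ω g ^ 2 = 2 * Fintype.card G := by
    have hsp := sum_pairs (G := G) (fun _ => (1 : ℕ)) hab h2 (fun _ _ => rfl)
    simp only [smul_eq_mul, mul_one, Finset.sum_const] at hsp
    have hP : (Finset.univ.filter (· ∈ P G α β)).card = Nat.card (P G α β) := by
      rw [Nat.card_eq_fintype_card, Fintype.card_subtype]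
    rw [hP, offcard, ← hG] at hsp
    have : ∀ g : G, fx Ω g ^ 2 = (fx Ω g * fx Ω g - fx Ω g) + fx Ω g := by
      intro g
      rw [sq, Nat.sub_add_cancel (Nat.le_mul_self _)]
    rw [Finset.sum_congr rfl (fun g _ => this g), Finset.sum_add_distrib, hsp, sum_fx htr]
    omega
  by_cases hH : P G α β = ⊥
  · left
    have hc1 : Nat.card (P G α β) = 1 := Subgroup.card_eq_one.2 hH
    rw [hc1, mul_one] at hG
    have hfx : ∀ g : G, g ≠ 1 → fx Ω g ≤ 1 := by
      intro g hg
      by_contra hlt
      push Not at hlt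
      obtain ⟨u, hu, v, hv, huv⟩ := Finset.one_lt_card.1 hlt
      simp only [Finset.mem_filter, Finset.mem_univ, true_and] at hu hv
      have hcard : Nat.card (P G u v) = 1 := (card_P h2 hab huv).trans hc1
      have hm : g ∈ P G u v := mem_P.2 ⟨hu, hv⟩
      rw [Subgroup.card_eq_one.1 hcard, Subgroup.mem_bot] at hm
      exact hg hm
    refine ⟨?_, fun g hg => ?_, hG, ?_⟩
    · by_contra hc
      push Not at hc
      -- then `G` would be regular
      have h1 : ∀ g : G, g ≠ 1 → fx Ω g = 0 := by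
        intro g hg
        rw [fx, Finset.card_eq_zero, Finset.filter_eq_empty_iff]
        exact fun z _ => hc g hg z
      have := sum_fx (G := G) htr
      rw [Fintype.sum_eq_single (1 : G) h1, fx_one, hG] at this
      have : Fintype.card Ω * 2 ≤ Fintype.card Ω * (Fintype.card Ω - 1) :=
        Nat.mul_le_mul_left _ (by omega)
      omega
    · refine le_trans (le_of_eq ?_) (hfx g hg)
      rw [Nat.card_eq_fintype_card, Fintype.card_subtype]
      rfl
    · have hT : ∑ g : G, (fx Ω g - 1) * (Fintype.card Ω - fx Ω g) = 0 := by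
        refine Finset.sum_eq_zero fun g _ => ?_
        by_cases hg : g = 1
        · simp [hg, fx_one]
        · rw [Nat.sub_eq_zero_of_le (hfx g hg), zero_mul]
      omega
  · right
    have := main_two h2 hab hn hH
    omega

end CfsgLib.Derangement
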